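/-
Zassenhaus groups: elementary facts.
Main results: `exists_smul_pair`, `eq_one_of_fix3`, `three_le_card`, `index_stab`, `card_stab`, `card_eq`,
`card_pair_stab_eq`, `exists_involution_swap`, `exists_conj_swap`, `card_fixedBy_le_two`,
`card_fixedBy_modEq`, `card_swap`, `card_pair_dvd_sub_two`, `pointKernel`, `card_pointKernel`.
-/
import Cfsg.Agent.EqLemmas

set_option autoImplicit false

open MulAction

namespace Cfsg.Agent.Zassenhaus

variable {G Ω : Type*} [Group G] [MulAction G Ω]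

theorem eq_one_of_fix3 (hZ : Cfsg.IsZassenhausGroup G Ω) {g : G} {a b c : Ω} (hab : a ≠ b) (hbc : b ≠ c)
    (hac : a ≠ c) (ha : g • a = a) (hb : g • b = b) (hc : g • c = c) : g = 1 :=
  hZ.2.2.1 g a b c hab hbc hac ha hb hc

theorem faithfulSMul (hZ : Cfsg.IsZassenhausGroup G Ω) : FaithfulSMul G Ω := hZ.1

theorem exists_moved (hZ : Cfsg.IsZassenhausGroup G Ω) {g : G} (hg : g ≠ 1) : ∃ c : Ω, g • c ≠ c := by
  by_contra h
  push Not at h
  haveI := hZ.1
  exact hg (eq_of_smul_eq_smul (α := Ω) (fun c => by rw [h c, one_smul]))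

theorem eq_left_or_eq_right (hZ : Cfsg.IsZassenhausGroup G Ω) {g : G} (hg : g ≠ 1) {a b c : Ω} (hab : a ≠ b)
    (ha : g • a = a) (hb : g • b = b) (hc : g • c = c) : c = a ∨ c = b := by
  by_contra h
  push Not at h
  exact hg (eq_one_of_fix3 hZ hab h.2.symm h.1.symm ha hb hc)

theorem exists_smul_pair (hZ : Cfsg.IsZassenhausGroup G Ω) {a b c d : Ω} (hab : a ≠ b) (hcd : c ≠ d) :
    ∃ g : G, g • a = c ∧ g • b = d :=
  is_two_pretransitive_iff.1 hZ.2.1 hab hcd

theorem exists_fix_pair (hZ : Cfsg.IsZassenhausGroup G Ω) {a b : Ω} (hab : a ≠ b) :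
    ∃ h : G, h ≠ 1 ∧ h • a = a ∧ h • b = b := by
  obtain ⟨g, hg, c, d, hcd, hc, hd⟩ := hZ.2.2.2.1
  obtain ⟨k, hkc, hkd⟩ := exists_smul_pair hZ hcd hab
  refine ⟨k * g * k⁻¹, ?_, ?_, ?_⟩
  · simpa [mul_inv_eq_one] using hg
  · rw [← hkc]; simp [mul_smul, hc]
  · rw [← hkd]; simp [mul_smul, hd]

theorem exists_third (hZ : Cfsg.IsZassenhausGroup G Ω) {a b : Ω} (hab : a ≠ b) :
    ∃ c : Ω, c ≠ a ∧ c ≠ b := by
  obtain ⟨h, h1, ha, hb⟩ := exists_fix_pair hZ hab
  obtain ⟨c, hc⟩ := exists_moved hZ h1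
  exact ⟨c, fun e => hc (e ▸ ha), fun e => hc (e ▸ hb)⟩

theorem exists_ne' (hZ : Cfsg.IsZassenhausGroup G Ω) (a : Ω) : ∃ b : Ω, b ≠ a := by
  obtain ⟨_, _, c, d, hcd, _, _⟩ := hZ.2.2.2.1
  by_cases h : c = a
  · exact ⟨d, fun e => hcd (h.trans e.symm)⟩
  · exact ⟨c, h⟩

theorem isPretransitive (hZ : Cfsg.IsZassenhausGroup G Ω) : IsPretransitive G Ω := by
  refine ⟨fun x y => ?_⟩
  obtain ⟨x', hx⟩ := exists_ne' hZ x
  obtain ⟨y', hy⟩ := exists_ne' hZ y
  obtain ⟨g, hg, _⟩ := exists_smul_pair hZ hx.symm hy.symm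
  exact ⟨g, hg⟩

theorem three_le_card [Finite Ω] (hZ : Cfsg.IsZassenhausGroup G Ω) : 3 ≤ Nat.card Ω := by
  obtain ⟨_, _, a, b, hab, _, _⟩ := hZ.2.2.2.1
  obtain ⟨c, hca, hcb⟩ := exists_third hZ hab
  classical
  have := Fintype.ofFinite Ω
  rw [Nat.card_eq_fintype_card]
  calc 3 = ({a, b, c} : Finset Ω).card := by simp [hab, hca.symm, hcb.symm]
    _ ≤ _ := Finset.card_le_univ _

theorem index_stab (hZ : Cfsg.IsZassenhausGroup G Ω) (a : Ω) :
    (stabilizer G a).index = Nat.card Ω :=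
  haveI := isPretransitive hZ
  index_stabilizer_of_transitive G a

theorem relIndex_pair_stab [Finite Ω] (hZ : Cfsg.IsZassenhausGroup G Ω) {a b : Ω} (hab : a ≠ b) :
    (stabilizer G a ⊓ stabilizer G b).relIndex (stabilizer G a) = Nat.card Ω - 1 := by
  have h1 : (stabilizer G a ⊓ stabilizer G b).subgroupOf (stabilizer G a) =
      stabilizer (stabilizer G a) b := by
    ext g
    simp [Subgroup.mem_subgroupOf, mem_stabilizer_iff, Subgroup.smul_def, show (g : G) • a = a from g.2]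
  have h2 : orbit (stabilizer G a) b = {a}ᶜ := by
    ext c
    simp only [Set.mem_compl_iff, Set.mem_singleton_iff]
    constructor
    · rintro ⟨g, rfl⟩ h
      exact hab (smul_left_cancel (g : G) ((show (g : G) • a = a from g.2).trans h.symm))
    · intro hc
      obtain ⟨g, hga, hgb⟩ := exists_smul_pair hZ hab (Ne.symm hc)
      exact ⟨⟨g, hga⟩, hgb⟩
  rw [Subgroup.relIndex, h1, index_stabilizer, h2, Set.ncard_compl, Set.ncard_singleton]

theorem card_stab [Finite Ω] (hZ : Cfsg.IsZassenhausGroup G Ω) {a b : Ω} (hab : a ≠ b) :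
    Nat.card (stabilizer G a) = (Nat.card Ω - 1) * Nat.card ↥(stabilizer G a ⊓ stabilizer G b) := by
  have h := Subgroup.card_mul_index ((stabilizer G a ⊓ stabilizer G b).subgroupOf (stabilizer G a))
  rw [Nat.card_congr (Subgroup.subgroupOfEquivOfLe inf_le_left).toEquiv] at h
  rw [← h, ← Subgroup.relIndex, relIndex_pair_stab hZ hab, mul_comm]

theorem card_eq [Finite Ω] (hZ : Cfsg.IsZassenhausGroup G Ω) {a b : Ω} (hab : a ≠ b) :
    Nat.card G = Nat.card Ω * ((Nat.card Ω - 1) * Nat.card ↥(stabilizer G a ⊓ stabilizer G b)) := by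
  rw [← card_stab hZ hab, ← index_stab hZ a, mul_comm, Subgroup.card_mul_index]

theorem card_pair_stab_eq [Finite Ω] (hZ : Cfsg.IsZassenhausGroup G Ω) {a b c d : Ω} (hab : a ≠ b)
    (hcd : c ≠ d) :
    Nat.card ↥(stabilizer G c ⊓ stabilizer G d) = Nat.card ↥(stabilizer G a ⊓ stabilizer G b) := by
  have h := (card_eq hZ hcd).symm.trans (card_eq hZ hab)
  have := three_le_card hZ
  exact Nat.eq_of_mul_eq_mul_left (by omega) (Nat.eq_of_mul_eq_mul_left (by omega) h)

theorem two_dvd_card [Finite Ω] (hZ : Cfsg.IsZassenhausGroup G Ω) : 2 ∣ Nat.card G := by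
  obtain ⟨_, _, a, b, hab, _, _⟩ := hZ.2.2.2.1
  rw [card_eq hZ hab, ← mul_assoc]
  apply Dvd.dvd.mul_right
  have := three_le_card hZ
  rcases Nat.even_or_odd (Nat.card Ω) with h | h
  · exact h.two_dvd.mul_right _
  · exact (Nat.Odd.sub_odd h odd_one).two_dvd.mul_left _

theorem exists_conj_swap (hZ : Cfsg.IsZassenhausGroup G Ω) {a b : Ω} (hab : a ≠ b) {t : G}
    (ht : orderOf t = 2) :
    ∃ g : G, orderOf (g * t * g⁻¹) = 2 ∧ (g * t * g⁻¹) • a = b ∧ (g * t * g⁻¹) • b = a := by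
  have ht1 : t ≠ 1 := fun h => by simp [h] at ht
  have htt : t * t = 1 := by
    have := pow_orderOf_eq_one t
    rwa [ht, pow_two] at this
  obtain ⟨c, hc⟩ := exists_moved hZ ht1
  obtain ⟨g, hgc, hgd⟩ := exists_smul_pair hZ (Ne.symm hc) hab
  refine ⟨g, ?_, ?_, ?_⟩
  · rw [← ht]; exact MulEquiv.orderOf_eq (MulAut.conj g) t
  · rw [← hgc, ← hgd]; simp [mul_smul]
  · rw [← hgd, ← hgc]; simp [mul_smul, ← mul_smul t t, htt]

theorem exists_involution_swap [Finite G] [Finite Ω] (hZ : Cfsg.IsZassenhausGroup G Ω) {a b : Ω}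
    (hab : a ≠ b) : ∃ s : G, orderOf s = 2 ∧ s • a = b ∧ s • b = a := by
  obtain ⟨t, ht⟩ := exists_prime_orderOf_dvd_card' 2 (two_dvd_card hZ)
  obtain ⟨g, h1, h2, h3⟩ := exists_conj_swap hZ hab ht
  exact ⟨_, h1, h2, h3⟩

theorem card_fixedBy_conj (g t : G) :
    Nat.card (fixedBy Ω (g * t * g⁻¹)) = Nat.card (fixedBy Ω t) := by
  refine Nat.card_congr ((MulAction.toPerm g⁻¹).subtypeEquiv fun c => ?_)
  simp only [mem_fixedBy, MulAction.toPerm_apply]
  rw [mul_smul, mul_smul, smul_eq_iff_eq_inv_smul]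

theorem card_fixedBy_le_two [Finite Ω] (hZ : Cfsg.IsZassenhausGroup G Ω) {g : G} (hg : g ≠ 1) :
    Nat.card (fixedBy Ω g) ≤ 2 := by
  rw [Nat.card_coe_set_eq]
  by_contra h
  push Not at h
  obtain ⟨a, ha, b, hb, c, hc, hab, hac, hbc⟩ := (Set.two_lt_ncard (Set.toFinite _)).1 h
  exact hg (eq_one_of_fix3 hZ hab hbc hac (mem_fixedBy.1 ha) (mem_fixedBy.1 hb) (mem_fixedBy.1 hc))

theorem card_fixedBy_modEq [Finite Ω] {t : G} (ht : t * t = 1) :
    Nat.card (fixedBy Ω t) ≡ Nat.card Ω [MOD 2] := by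
  classical
  have := Fintype.ofFinite Ω
  let f : Function.End Ω := fun c => t • c
  have hf : f ^ 2 ^ 1 = 1 := by
    funext c
    change (f ^ 2) c = c
    rw [pow_two]
    change t • t • c = c
    rw [← mul_smul, ht, one_smul]
  have := (Equiv.Perm.card_fixedPoints_modEq hf).symm
  rw [← Nat.card_eq_fintype_card, ← Nat.card_eq_fintype_card] at this
  exact this

theorem card_swap {a b : Ω} {s : G} (hsa : s • a = b) (hsb : s • b = a) :
    Nat.card {g : G // g • a = b ∧ g • b = a} = Nat.card ↥(stabilizer G a ⊓ stabilizer G b) :=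
  Nat.card_congr
    { toFun := fun g => ⟨s⁻¹ * g.1, by
        simp only [Subgroup.mem_inf, mem_stabilizer_iff, mul_smul, g.2.1, g.2.2]
        exact ⟨inv_smul_eq_iff.2 hsa.symm, inv_smul_eq_iff.2 hsb.symm⟩⟩
      invFun := fun h => ⟨s * h.1, by
        have h1 : (h.1 : G) • a = a := h.2.1
        have h2 : (h.1 : G) • b = b := h.2.2
        simp [mul_smul, h1, h2, hsa, hsb]⟩
      left_inv := fun g => by simp
      right_inv := fun h => by simp }

/-- The order of a two-point stabiliser divides `n - 2`: it acts freely on the other points. -/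
theorem card_pair_dvd_sub_two [Finite Ω] (hZ : Cfsg.IsZassenhausGroup G Ω) {a b : Ω} (hab : a ≠ b) :
    Nat.card ↥(stabilizer G a ⊓ stabilizer G b) ∣ Nat.card Ω - 2 := by
  set H := stabilizer G a ⊓ stabilizer G b
  let X := {c : Ω // c ≠ a ∧ c ≠ b}
  let _ : MulAction H X :=
    { smul := fun h c => ⟨(h : G) • c.1,
        fun e => c.2.1 (smul_left_cancel (h : G) (e.trans (show (h : G) • a = a from h.2.1).symm)),
        fun e => c.2.2 (smul_left_cancel (h : G) (e.trans (show (h : G) • b = b from h.2.2).symm))⟩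
      one_smul := fun c => Subtype.ext (one_smul G c.1)
      mul_smul := fun g h c => Subtype.ext (mul_smul (g : G) (h : G) c.1) }
  have hfree : ∀ c : X, stabilizer H c = ⊥ := by
    intro c
    rw [eq_bot_iff]
    intro h hh
    have e : (h : G) • c.1 = c.1 := congrArg Subtype.val hh
    exact Subgroup.mem_bot.2 (Subtype.ext (eq_one_of_fix3 hZ hab c.2.2.symm c.2.1.symm h.2.1 h.2.2 e))
  have hX : Nat.card X = Nat.card Ω - 2 := by
    have : ({a, b} : Set Ω)ᶜ = {c : Ω | c ≠ a ∧ c ≠ b} := by ext c; simp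
    change Nat.card {c : Ω | c ≠ a ∧ c ≠ b} = _
    rw [Nat.card_coe_set_eq, ← this, Set.ncard_compl, Set.ncard_pair hab]
  rw [← hX, Nat.card_congr (MulAction.selfEquivOrbitsQuotientProd hfree), Nat.card_prod]
  exact dvd_mul_left _ _

/-- The elements fixing `a` and no other point, together with `1`. -/
def pointKernel (G : Type*) {Ω : Type*} [Group G] [MulAction G Ω] (a : Ω) : Set G :=
  {g | g • a = a ∧ (g = 1 ∨ ∀ c : Ω, g • c = c → c = a)}

theorem card_pointKernel [Finite G] [Finite Ω] (hZ : Cfsg.IsZassenhausGroup G Ω) (a : Ω) :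
    Nat.card (pointKernel G a) = Nat.card Ω - 1 := by
  classical
  have := Fintype.ofFinite Ω
  have := Fintype.ofFinite G
  obtain ⟨b, hba⟩ := exists_ne' hZ a
  set d := Nat.card ↥(stabilizer G a ⊓ stabilizer G b) with hd
  set S : Finset G := Finset.univ.filter (fun g => g • a = a) with hS
  set K : Finset G := Finset.univ.filter (fun g => g ∈ pointKernel G a) with hK
  have hKS : K ⊆ S := by
    intro g hg
    simp only [K, S, Finset.mem_filter, Finset.mem_univ, true_and] at hg ⊢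
    exact hg.1
  have hcount := Finset.card_mul_eq_card_mul (fun (g : G) (c : Ω) => g • c = c)
    (s := S \ K) (t := Finset.univ.erase a) (m := 1) (n := d - 1) ?_ ?_
  · have hScard : S.card = (Nat.card Ω - 1) * d := by
      rw [hd, ← card_stab hZ hba.symm, Nat.card_eq_fintype_card, hS, ← Fintype.card_subtype]
      rfl
    rw [mul_one, Finset.card_sdiff_of_subset hKS, Finset.card_erase_of_mem (Finset.mem_univ a),
      Finset.card_univ, ← Nat.card_eq_fintype_card, hScard, Nat.mul_sub, mul_one] at hcount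
    have hle := Finset.card_le_card hKS
    rw [hScard] at hle
    rw [Nat.card_eq_fintype_card (α := pointKernel G a), ← Set.toFinset_card]
    have hKeq : (pointKernel G a).toFinset = K := by ext g; simp [K]
    rw [hKeq]
    have hd1 : 1 ≤ d := Nat.card_pos
    have : Nat.card Ω - 1 ≤ (Nat.card Ω - 1) * d := Nat.le_mul_of_pos_right _ hd1
    omega
  · intro g hg
    simp only [S, K, Finset.mem_sdiff, Finset.mem_filter, Finset.mem_univ, true_and] at hg
    obtain ⟨hga, hgK⟩ := hg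
    simp only [pointKernel, Set.mem_ofPred_eq, hga, true_and, not_or, not_forall, exists_prop] at hgK
    obtain ⟨hg1, c, hc, hca⟩ := hgK
    rw [Finset.card_eq_one]
    refine ⟨c, ?_⟩
    ext x
    simp only [Finset.bipartiteAbove, Finset.mem_filter, Finset.mem_erase, Finset.mem_univ, and_true,
      Finset.mem_singleton]
    constructor
    · rintro ⟨hxa, hx⟩
      exact (eq_left_or_eq_right hZ hg1 (Ne.symm hca) hga hc hx).resolve_left hxa
    · rintro rfl; exact ⟨hca, hc⟩
  · intro c hc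
    have hca : c ≠ a := (Finset.mem_erase.1 hc).1
    have e : (S \ K).bipartiteBelow (fun (g : G) (c : Ω) => g • c = c) c =
        (Finset.univ.filter (fun g => g ∈ stabilizer G a ⊓ stabilizer G c)).erase 1 := by
      ext g
      simp only [S, K, Finset.bipartiteBelow, Finset.mem_filter, Finset.mem_sdiff, Finset.mem_univ,
        true_and, Finset.mem_erase, Subgroup.mem_inf, mem_stabilizer_iff]
      constructor
      · rintro ⟨⟨hga, hgK⟩, hgc⟩
        exact ⟨fun h => hgK ⟨hga, Or.inl h⟩, hga, hgc⟩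
      · rintro ⟨hg1, hga, hgc⟩
        exact ⟨⟨hga, fun h => hca ((h.2.resolve_left hg1) c hgc)⟩, hgc⟩
    rw [e, Finset.card_erase_of_mem (by simp), ← Fintype.card_subtype,
      ← Nat.card_eq_fintype_card, hd, ← card_pair_stab_eq hZ hba.symm hca.symm]

/-- A subgroup of the point stabiliser of order `n - 1` whose nonidentity elements fix only `a`
is the point kernel. -/
theorem coe_eq_pointKernel [Finite G] [Finite Ω] (hZ : Cfsg.IsZassenhausGroup G Ω) {a : Ω} (K : Subgroup G)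
    (hKa : K ≤ stabilizer G a) (hcard : Nat.card K = Nat.card Ω - 1)
    (hfix : ∀ u ∈ K, u ≠ 1 → ∀ c : Ω, u • c = c → c = a) : (K : Set G) = pointKernel G a := by
  refine Set.eq_of_subset_of_ncard_le (fun u hu => ⟨hKa hu, ?_⟩) ?_ (Set.toFinite _)
  · by_cases h : u = 1
    · exact Or.inl h
    · exact Or.inr (hfix u hu h)
  · rw [← Nat.card_coe_set_eq, ← Nat.card_coe_set_eq, card_pointKernel hZ a]
    exact hcard.ge

end Cfsg.Agent.Zassenhaus
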