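/-
Zassenhaus groups in which every involution fixes exactly two points and `n - 2 = 2d`.

* `smallCyclic_pair`, `pair_involution_unique`
* `inverting_of_fix_two` : every element interchanging two points is an involution inverting
  their two-point stabiliser
-/
import Cfsg.Agent.S0739
import Cfsg.Agent.EqLemmas

set_option autoImplicit false

open MulAction

namespace Cfsg.Agent.Zassenhaus

variable {G Ω : Type*} [Group G] [Finite G] [MulAction G Ω] [Finite Ω]

theorem smallCyclic_pair (hZ : Cfsg.IsZassenhausGroup G Ω) {a b : Ω} (hab : a ≠ b) :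
    Frobenius.SmallCyclic ↥(stabilizer G a ⊓ stabilizer G b) :=
  (Frobenius.smallCyclic_complement (S0739.isFrobeniusComplement_pair hZ hab)).of_injective
    (f := (Subgroup.subgroupOfEquivOfLe (inf_le_left :
      stabilizer G a ⊓ stabilizer G b ≤ stabilizer G a)).symm.toMonoidHom)
    (Subgroup.subgroupOfEquivOfLe (inf_le_left :
      stabilizer G a ⊓ stabilizer G b ≤ stabilizer G a)).symm.injective

theorem pair_involution_unique (hZ : Cfsg.IsZassenhausGroup G Ω) {a b : Ω} (hab : a ≠ b) {s t : G}
    (hs : orderOf s = 2) (ht : orderOf t = 2) (hsa : s • a = a) (hsb : s • b = b)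
    (hta : t • a = a) (htb : t • b = b) : s = t :=
  congrArg Subtype.val ((smallCyclic_pair hZ hab).eq_of_involution
    (s := ⟨s, hsa, hsb⟩) (t := ⟨t, hta, htb⟩)
    ((Subgroup.orderOf_coe _).symm.trans hs) ((Subgroup.orderOf_coe _).symm.trans ht))

/-- Double counting of fixed and interchanged pairs. -/
theorem inverting_of_fix_two (hZ : Cfsg.IsZassenhausGroup G Ω) {a b : Ω} (hab : a ≠ b)
    (heven : Even (Nat.card ↥(stabilizer G a ⊓ stabilizer G b)))
    (hcard : Nat.card Ω - 2 = 2 * Nat.card ↥(stabilizer G a ⊓ stabilizer G b))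
    (hfix2 : ∀ t : G, orderOf t = 2 → Nat.card (fixedBy Ω t) = 2) :
    ∀ s : G, s • a = b → s • b = a →
      orderOf s = 2 ∧ ∀ h ∈ stabilizer G a ⊓ stabilizer G b, s * h * s⁻¹ = h⁻¹ := by
  classical
  have := Fintype.ofFinite Ω
  have := Fintype.ofFinite G
  have hn3 := three_le_card hZ
  set d := Nat.card ↥(stabilizer G a ⊓ stabilizer G b) with hd
  set I : Finset G := Finset.univ.filter (fun t => orderOf t = 2) with hI
  set P : Finset (Ω × Ω) := (Finset.univ : Finset Ω).offDiag with hP
  have hfixset : ∀ t ∈ I, (Finset.univ.filter (fun c : Ω => t • c = c)).card = 2 := fun t ht => by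
    rw [← Fintype.card_subtype, ← Nat.card_eq_fintype_card]
    exact hfix2 t (Finset.mem_filter.1 ht).2
  have hle1 : I.card * 2 ≤ P.card * 1 := by
    refine Finset.card_mul_le_card_mul (fun t p => t • p.1 = p.1 ∧ t • p.2 = p.2) ?_ ?_
    · intro t ht
      have e : P.bipartiteAbove (fun t p => t • p.1 = p.1 ∧ t • p.2 = p.2) t =
          (Finset.univ.filter (fun c : Ω => t • c = c)).offDiag := by
        ext p
        simp only [P, Finset.mem_bipartiteAbove, Finset.mem_offDiag, Finset.mem_filter, Finset.mem_univ, true_and]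
        tauto
      rw [e, Finset.offDiag_card, hfixset t ht]
    · intro p hp
      rw [Finset.card_le_one]
      intro t ht u hu
      simp only [I, Finset.mem_bipartiteBelow, Finset.mem_filter, Finset.mem_univ, true_and] at ht hu
      exact pair_involution_unique hZ (Finset.mem_offDiag.1 hp).2.2 ht.1 hu.1 ht.2.1 ht.2.2 hu.2.1 hu.2.2
  have hge1 : P.card * 1 ≤ I.card * 2 := by
    refine Finset.card_mul_le_card_mul (fun p t => t • p.1 = p.1 ∧ t • p.2 = p.2) ?_ ?_
    · intro p hp
      have hp' : p.1 ≠ p.2 := (Finset.mem_offDiag.1 hp).2.2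
      obtain ⟨t, ht⟩ := exists_prime_orderOf_dvd_card' (G := ↥(stabilizer G p.1 ⊓ stabilizer G p.2)) 2
        (by rw [card_pair_stab_eq hZ hab hp']; exact heven.two_dvd)
      rw [Finset.one_le_card]
      exact ⟨t, (Finset.mem_bipartiteAbove _).2
        ⟨Finset.mem_filter.2 ⟨Finset.mem_univ _, (Subgroup.orderOf_coe t).trans ht⟩, t.2.1, t.2.2⟩⟩
    · intro t ht
      have e : P.bipartiteBelow (fun p t => t • p.1 = p.1 ∧ t • p.2 = p.2) t =
          (Finset.univ.filter (fun c : Ω => t • c = c)).offDiag := by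
        ext p
        simp only [P, Finset.mem_bipartiteBelow, Finset.mem_offDiag, Finset.mem_filter, Finset.mem_univ, true_and]
        tauto
      rw [e, Finset.offDiag_card, hfixset t ht]
  -- swapping involutions
  let S : Ω × Ω → Finset G := fun p => Finset.univ.filter (fun g => g • p.1 = p.2 ∧ g • p.2 = p.1)
  let k : Ω × Ω → ℕ := fun p => (I.filter (fun g => g • p.1 = p.2 ∧ g • p.2 = p.1)).card
  have hS : ∀ p ∈ P, (S p).card = d := fun p hp => by
    have hp' : p.1 ≠ p.2 := (Finset.mem_offDiag.1 hp).2.2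
    obtain ⟨s, _, hs1, hs2⟩ := exists_involution_swap hZ hp'
    rw [← Fintype.card_subtype, ← Nat.card_eq_fintype_card, card_swap hs1 hs2,
      card_pair_stab_eq hZ hab hp']
  have hk : ∀ p ∈ P, k p ≤ d := fun p hp => by
    rw [← hS p hp]
    exact Finset.card_le_card fun g hg => Finset.mem_filter.2 ⟨Finset.mem_univ g, (Finset.mem_filter.1 hg).2⟩
  have hsum : P.card * d ≤ ∑ p ∈ P, k p := by
    have h1 : ∀ t ∈ I, 2 * d ≤ (P.filter (fun p => t • p.1 = p.2 ∧ t • p.2 = p.1)).card := by
      intro t ht
      have htt : t * t = 1 := by rw [← pow_two, ← (Finset.mem_filter.1 ht).2, pow_orderOf_eq_one]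
      rw [← hcard, Nat.card_eq_fintype_card, ← Finset.card_univ, ← hfixset t ht,
        ← Finset.card_sdiff_of_subset (Finset.filter_subset _ _)]
      refine Finset.card_le_card_of_injOn (fun c => (c, t • c)) ?_ (fun x _ y _ h => congrArg Prod.fst h)
      intro c hc
      simp only [Finset.mem_coe, Finset.mem_sdiff, Finset.mem_filter, Finset.mem_univ, true_and] at hc
      simp only [P, Finset.mem_coe, Finset.mem_filter, Finset.mem_offDiag, Finset.mem_univ, true_and,
        ← mul_smul, htt, one_smul, and_true]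
      exact fun h => hc h.symm
    calc P.card * d = ∑ _t ∈ I, 2 * d := by
          rw [Finset.sum_const, smul_eq_mul, ← mul_assoc]
          congr 1
          omega
      _ ≤ ∑ t ∈ I, (P.filter (fun p => t • p.1 = p.2 ∧ t • p.2 = p.1)).card := Finset.sum_le_sum h1
      _ = ∑ p ∈ P, k p := by
          simp only [k, Finset.card_filter]
          exact Finset.sum_comm
  have hall : ∀ p ∈ P, k p = d := by
    refine (Finset.sum_eq_sum_iff_of_le hk).1 (le_antisymm (Finset.sum_le_sum hk) ?_)
    rwa [Finset.sum_const, smul_eq_mul]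
  have hinvol : ∀ s : G, s • a = b → s • b = a → orderOf s = 2 := by
    intro s hsa hsb
    have hp : (a, b) ∈ P := by simp [P, hab]
    have hsub : I.filter (fun g => g • a = b ∧ g • b = a) = S (a, b) :=
      Finset.eq_of_subset_of_card_le
        (fun g hg => Finset.mem_filter.2 ⟨Finset.mem_univ g, (Finset.mem_filter.1 hg).2⟩)
        (by rw [hS _ hp]; exact (hall _ hp).ge)
    have : s ∈ I.filter (fun g => g • a = b ∧ g • b = a) := by
      rw [hsub]; exact Finset.mem_filter.2 ⟨Finset.mem_univ s, hsa, hsb⟩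
    exact (Finset.mem_filter.1 (Finset.mem_filter.1 this).1).2
  have hinv : ∀ s : G, s • a = b → s • b = a →
      ∀ h ∈ stabilizer G a ⊓ stabilizer G b, s * h * s⁻¹ = h⁻¹ := by
    intro s hsa hsb h hh
    have hsh := hinvol (s * h) (by rw [mul_smul, show h • a = a from hh.1, hsa])
      (by rw [mul_smul, show h • b = b from hh.2, hsb])
    have h1 : s * h * (s * h) = 1 := by rw [← pow_two, ← hsh, pow_orderOf_eq_one]
    have h2 : s * s = 1 := by rw [← pow_two, ← hinvol s hsa hsb, pow_orderOf_eq_one]
    rw [inv_eq_of_mul_eq_one_right h2]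
    exact eq_inv_of_mul_eq_one_left (by rw [← h1]; group)
  exact fun s h1 h2 => ⟨hinvol s h1 h2, hinv s h1 h2⟩

end Cfsg.Agent.Zassenhaus
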