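/-
The point kernel of a Zassenhaus group as a subgroup.

* `exists_kernel_subgroup` : normal in the point stabiliser, of order `n - 1`, semiregular outside the point
* `kernel_abelian` : it is abelian when `2 d ≥ n - 2`
-/
import Cfsg.Agent.S0738
import Cfsg.Agent.S0739
import Cfsg.Agent.EqLemmas

set_option autoImplicit false

open MulAction

namespace Cfsg.Agent.Zassenhaus

variable {G Ω : Type*} [Group G] [Finite G] [MulAction G Ω] [Finite Ω]

theorem exists_kernel_subgroup (hZ : Cfsg.IsZassenhausGroup G Ω) (a : Ω) :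
    ∃ H : Subgroup G, H ≤ stabilizer G a ∧ (∀ t ∈ stabilizer G a, ∀ u ∈ H, t * u * t⁻¹ ∈ H) ∧
      Nat.card H = Nat.card Ω - 1 ∧ (∀ u ∈ H, u ≠ 1 → ∀ c : Ω, u • c = c → c = a) := by
  obtain ⟨b, hba⟩ := exists_ne' hZ a
  have hFC := S0739.isFrobeniusComplement_pair hZ (Ne.symm hba)
  let K := Frobenius.frobKernel hFC
  refine ⟨K.map (stabilizer G a).subtype, Subgroup.map_subtype_le _, ?_, ?_, ?_⟩
  · rintro t ht _ ⟨u, hu, rfl⟩
    exact ⟨⟨t, ht⟩ * u * ⟨t, ht⟩⁻¹, (Frobenius.frobKernel_normal hFC).conj_mem u hu _, rfl⟩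
  · rw [← Nat.card_congr (K.equivMapOfInjective _ (stabilizer G a).subtype_injective).toEquiv,
      Frobenius.card_frobKernel hFC]
    exact relIndex_pair_stab hZ (Ne.symm hba)
  · rintro _ ⟨u, hu, rfl⟩ hu1 c hc
    by_contra hca
    obtain ⟨g, hg, hgc⟩ := exists_smul_pair hZ (Ne.symm hba) (Ne.symm hca)
    apply hu1
    let g' : stabilizer G a := ⟨g, hg⟩
    have h1 : g'⁻¹ * u * g' ∈ K := by
      simpa [K] using (Frobenius.frobKernel_normal hFC).conj_mem u hu g'⁻¹
    have h2 : g'⁻¹ * u * g' ∈ (stabilizer G a ⊓ stabilizer G b).subgroupOf (stabilizer G a) := by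
      refine ⟨(g'⁻¹ * u * g').2, ?_⟩
      change (g⁻¹ * (u : G) * g) • b = b
      rw [mul_smul, mul_smul, hgc, show (u : G) • c = c from hc, ← hgc, inv_smul_smul]
    have h3 := Subgroup.mem_bot.1 ((Frobenius.frobKernel_isComplement hFC).disjoint.le_bot ⟨h1, h2⟩)
    rw [mul_assoc, inv_mul_eq_one] at h3
    exact congrArg Subtype.val (mul_eq_right.1 h3.symm)

theorem kernel_abelian (hZ : Cfsg.IsZassenhausGroup G Ω) {a b : Ω} (hab : a ≠ b)
    (hd : Nat.card Ω - 2 ≤ 2 * Nat.card ↥(stabilizer G a ⊓ stabilizer G b))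
    (H : Subgroup G) (hHa : H ≤ stabilizer G a)
    (hHn : ∀ t ∈ stabilizer G a, ∀ u ∈ H, t * u * t⁻¹ ∈ H) (hHcard : Nat.card H = Nat.card Ω - 1)
    (hHfix : ∀ u ∈ H, u ≠ 1 → ∀ c : Ω, u • c = c → c = a) :
    ∀ u ∈ H, ∀ v ∈ H, u * v = v * u := by
  classical
  have := Fintype.ofFinite Ω
  have hreg : ∀ y z : Ω, y ≠ a → z ≠ a → ∃! u : H, (u : G) • y = z := by
    intro y z hy hz
    let f : H → {c : Ω // c ≠ a} := fun u => ⟨(u : G) • y, fun h => hy
      (smul_left_cancel (u : G) (h.trans (show (u : G) • a = a from hHa u.2).symm))⟩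
    have hinj : Function.Injective f := by
      intro u v h
      have h' : (u : G) • y = (v : G) • y := congrArg Subtype.val h
      by_contra hne
      have hne' : ((v⁻¹ * u : H) : G) ≠ 1 := fun e => hne (inv_mul_eq_one.1 (Subtype.ext e)).symm
      exact hy (hHfix _ (v⁻¹ * u : H).2 hne' y (by
        rw [Subgroup.coe_mul, Subgroup.coe_inv, mul_smul, h', inv_smul_smul]))
    have hf : Function.Bijective f := (Nat.bijective_iff_injective_and_card f).2 ⟨hinj, by
      rw [hHcard]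
      simp only [Nat.card_eq_fintype_card, Fintype.card_subtype_compl, Fintype.card_subtype_eq]⟩
    obtain ⟨u, hu⟩ := hf.2 ⟨z, hz⟩
    exact ⟨u, congrArg Subtype.val hu, fun v hv => hinj (Subtype.ext (hv.trans (congrArg Subtype.val hu).symm))⟩
  have hn : (H.subgroupOf (stabilizer G a)).Normal := ⟨fun u hu g => hHn g g.2 u hu⟩
  obtain ⟨hc, -⟩ := S0738.result hZ hab (by rwa [Nat.card_eq_fintype_card] at hd) H hHa hn hreg
  exact fun u hu v hv => congrArg Subtype.val (hc.is_comm.comm ⟨u, hu⟩ ⟨v, hv⟩)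

end Cfsg.Agent.Zassenhaus
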