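/-
Irreducible commuting sets of endomorphisms of a finite abelian group are multiplications of a field.

* `exists_field_of_irreducible`
-/
import Cfsg.Agent.EqLemmas

set_option autoImplicit false

namespace Cfsg.Agent.Zassenhaus

theorem exists_field_of_irreducible {V : Type*} [AddCommGroup V] [Finite V]
    (T : Set (AddMonoid.End V)) (hcomm : ∀ s ∈ T, ∀ t ∈ T, s * t = t * s)
    (hirr : ∀ W : AddSubgroup V, (∀ t ∈ T, ∀ w ∈ W, t w ∈ W) → W = ⊥ ∨ W = ⊤)
    {v₀ : V} (hv₀ : v₀ ≠ 0) :
    ∃ (p : ℕ) (_ : Fact p.Prime) (f : ℕ), f ≠ 0 ∧ ∃ σ : GaloisField p f ≃+ V,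
      σ 1 = v₀ ∧ ∀ t ∈ T, ∃ r : GaloisField p f, ∀ x, t (σ x) = σ (r * x) := by
  classical
  let R : Subring (AddMonoid.End V) := Subring.closure T
  have hRc : IsMulCommutative R := Subring.isMulCommutative_closure hcomm
  letI : CommRing R :=
    { (inferInstance : Ring R) with mul_comm := fun a b => hRc.is_comm.comm a b }
  let ev : R →+ V :=
    { toFun := fun r => (r : AddMonoid.End V) v₀, map_zero' := rfl, map_add' := fun _ _ => rfl }
  have hnontriv : Nontrivial V := ⟨⟨v₀, 0, hv₀⟩⟩
  have hker : ∀ r : R, r ≠ 0 → ∀ w : V, (r : AddMonoid.End V) w = 0 → w = 0 := by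
    intro r hr w hw
    let W : AddSubgroup V :=
      { carrier := {w | (r : AddMonoid.End V) w = 0}
        zero_mem' := map_zero _
        add_mem' := fun {x y} hx hy => by
          change (r : AddMonoid.End V) (x + y) = 0
          rw [map_add, show (r : AddMonoid.End V) x = 0 from hx, show (r : AddMonoid.End V) y = 0 from hy, add_zero]
        neg_mem' := fun {x} hx => by
          change (r : AddMonoid.End V) (-x) = 0
          rw [map_neg, show (r : AddMonoid.End V) x = 0 from hx, neg_zero] }
    rcases hirr W (fun t ht x hx => by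
      have h := congrArg Subtype.val (mul_comm r ⟨t, Subring.subset_closure ht⟩)
      have h' := DFunLike.congr_fun h x
      change (r : AddMonoid.End V) (t x) = 0
      have h'' : (r : AddMonoid.End V) (t x) = t ((r : AddMonoid.End V) x) := h'
      rw [h'', show (r : AddMonoid.End V) x = 0 from hx, map_zero]) with h | h
    · have : w ∈ W := hw
      rw [h] at this
      exact AddSubgroup.mem_bot.1 this
    · exfalso
      apply hr
      refine Subtype.ext (AddMonoidHom.ext fun x => ?_)
      exact (h ▸ AddSubgroup.mem_top x : x ∈ W)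
  have hinj : Function.Injective ev := by
    rw [injective_iff_map_eq_zero]
    intro r hr
    by_contra h
    exact hv₀ (hker r h v₀ hr)
  have hsurj : Function.Surjective ev := by
    rcases hirr ev.range (fun t ht w hw => by
      obtain ⟨r, rfl⟩ := hw
      exact ⟨⟨t, Subring.subset_closure ht⟩ * r, rfl⟩) with h | h
    · exfalso
      have : v₀ ∈ ev.range := ⟨1, rfl⟩
      rw [h] at this
      exact hv₀ (AddSubgroup.mem_bot.1 this)
    · exact AddMonoidHom.range_eq_top.1 h
  haveI : Finite R := Finite.of_injective ev hinj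
  haveI : Nontrivial R := ⟨⟨1, 0, fun h => hv₀ ((congrArg ev h).trans (map_zero ev))⟩⟩
  haveI : NoZeroDivisors R := ⟨fun {r s} h => by
    by_contra h'
    push Not at h'
    exact hv₀ (hker s h'.2 v₀ (hker r h'.1 _ (congrArg (fun z : R => ev z) h)))⟩
  haveI : IsDomain R := NoZeroDivisors.to_isDomain R
  letI : Field R := (Finite.isField_of_domain R).toField
  have := Fintype.ofFinite R
  obtain ⟨p, hp⟩ := CharP.exists R
  obtain ⟨f, hpp, hf⟩ := FiniteField.card R p
  haveI := Fact.mk hpp
  have := Fintype.ofFinite (GaloisField p f)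
  have hcard : Fintype.card (GaloisField p f) = Fintype.card R := by
    rw [hf, Fintype.card_eq_nat_card, GaloisField.card p f f.ne_zero]
  let τ : GaloisField p f ≃+* R := FiniteField.ringEquivOfCardEq hcard
  refine ⟨p, ⟨hpp⟩, f, f.ne_zero, τ.toAddEquiv.trans (AddEquiv.ofBijective ev ⟨hinj, hsurj⟩), ?_, ?_⟩
  · change ev (τ 1) = v₀
    rw [map_one]
    rfl
  · intro t ht
    refine ⟨τ.symm ⟨t, Subring.subset_closure ht⟩, fun x => ?_⟩
    change t (ev (τ x)) = ev (τ (_ * x))
    rw [map_mul, RingEquiv.apply_symm_apply]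
    rfl

end Cfsg.Agent.Zassenhaus
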