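/-
Recognition of `PSL₂(F)` acting on the projective line from coordinates.

* `mob` : `SL₂(F)` acting on a set identified with `OnePoint F`
* `iso_of_coords` : a group acting faithfully, containing the translations, with point stabilisers
  of the shape `y ↦ r² y` and an element `y ↦ c / y`, is `PSL₂(F)`
-/
import Cfsg.Agent.EqLemmas

set_option autoImplicit false

namespace Cfsg.Agent.Zassenhaus

open Matrix

variable {F : Type*} [Field F] [DecidableEq F] {Ω : Type*} (L : OnePoint F ≃ Ω)

/-- The action of `SL₂(F)` on a set identified with the projective line. -/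
noncomputable def mob : SpecialLinearGroup (Fin 2) F →* Equiv.Perm Ω :=
  L.permCongrHom.toMonoidHom.comp
    ((MulAction.toPermHom (GL (Fin 2) F) (OnePoint F)).comp SpecialLinearGroup.toGL)

theorem mob_apply (M : SpecialLinearGroup (Fin 2) F) (x : OnePoint F) :
    mob L M (L x) = L (SpecialLinearGroup.toGL M • x) := by
  simp [mob]

theorem toGL_coe (M : SpecialLinearGroup (Fin 2) F) (i j : Fin 2) :
    (SpecialLinearGroup.toGL M : Matrix (Fin 2) (Fin 2) F) i j = M i j := rfl

theorem mob_infty (M : SpecialLinearGroup (Fin 2) F) :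
    mob L M (L OnePoint.infty) =
      if M 1 0 = 0 then L OnePoint.infty else L ((M 0 0 / M 1 0 : F) : OnePoint F) := by
  rw [mob_apply, OnePoint.smul_infty_eq_ite]
  simp only [toGL_coe]
  exact apply_ite (fun x => L x) _ _ _

theorem mob_some (M : SpecialLinearGroup (Fin 2) F) (y : F) :
    mob L M (L (y : OnePoint F)) =
      if M 1 0 * y + M 1 1 = 0 then L OnePoint.infty
      else L (((M 0 0 * y + M 0 1) / (M 1 0 * y + M 1 1) : F) : OnePoint F) := by
  rw [mob_apply, OnePoint.smul_some_eq_ite]
  simp only [toGL_coe]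
  exact apply_ite (fun x => L x) _ _ _

theorem mob_ker : (mob L).ker = Subgroup.center (SpecialLinearGroup (Fin 2) F) := by
  ext M
  rw [MonoidHom.mem_ker, Matrix.SpecialLinearGroup.mem_center_iff]
  constructor
  · intro h
    have h0 := mob_infty L M
    rw [h, Equiv.Perm.one_apply] at h0
    have hc : M 1 0 = 0 := by
      by_contra hc
      rw [if_neg hc] at h0
      exact OnePoint.infty_ne_coe _ (L.injective h0)
    have hdet : M 0 0 * M 1 1 = 1 := by
      have := M.2
      rw [Matrix.det_fin_two] at this
      simpa [hc] using this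
    have hd : M 1 1 ≠ 0 := right_ne_zero_of_mul_eq_one hdet
    have h1 := mob_some L M 0
    rw [h, Equiv.Perm.one_apply, if_neg (by simpa using hd)] at h1
    have hb : M 0 1 = 0 := by
      have := OnePoint.coe_injective (L.injective h1)
      simpa [hd] using this.symm
    have h2 := mob_some L M 1
    rw [h, Equiv.Perm.one_apply, if_neg (by simpa [hc] using hd)] at h2
    have he : M 0 0 = M 1 1 := by
      have := OnePoint.coe_injective (L.injective h2)
      rw [hc, hb, zero_mul, zero_add, mul_one, add_zero, eq_div_iff hd, one_mul] at this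
      exact this.symm
    refine ⟨M 1 1, by rw [Fintype.card_fin, pow_two]; nth_rw 1 [← he]; exact hdet, ?_⟩
    ext i j
    fin_cases i <;> fin_cases j <;> simp [hc, hb, he]
  · rintro ⟨r, hr, hM⟩
    have e : ∀ i j, M i j = if i = j then r else 0 := fun i j => by
      rw [← hM]; simp [Matrix.scalar_apply, Matrix.diagonal_apply]
    have hr0 : r ≠ 0 := fun h => by simp [h] at hr
    refine Equiv.ext fun w => ?_
    obtain ⟨x, rfl⟩ := L.surjective w
    rw [Equiv.Perm.one_apply]
    cases x with
    | infty => rw [mob_infty, if_pos (by simp [e])]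
    | coe y =>
      rw [mob_some, if_neg (by simp [e, hr0])]
      simp [e, hr0]

variable {G : Type*} [Group G] [MulAction G Ω]

/-- **Recognition.** -/
theorem iso_of_coords [FaithfulSMul G Ω]
    (htr : ∀ x : F, ∃ g : G, g • L OnePoint.infty = L OnePoint.infty ∧
      ∀ y : F, g • L (y : OnePoint F) = L ((x + y : F) : OnePoint F))
    (hdiag : ∀ r : F, r ≠ 0 → ∃ g : G, g • L OnePoint.infty = L OnePoint.infty ∧
      ∀ y : F, g • L (y : OnePoint F) = L ((r * r * y : F) : OnePoint F))
    (hpair : ∀ g : G, g • L OnePoint.infty = L OnePoint.infty →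
      g • L ((0 : F) : OnePoint F) = L ((0 : F) : OnePoint F) →
      ∃ r : F, r ≠ 0 ∧ ∀ y : F, g • L (y : OnePoint F) = L ((r * r * y : F) : OnePoint F))
    (s : G) (c : F) (hc : c ≠ 0) (hsi : s • L OnePoint.infty = L ((0 : F) : OnePoint F))
    (hs0 : s • L ((0 : F) : OnePoint F) = L OnePoint.infty)
    (hs : ∀ y : F, y ≠ 0 → s • L (y : OnePoint F) = L ((c / y : F) : OnePoint F)) :
    Nonempty (G ≃* ProjectiveSpecialLinearGroup (Fin 2) F) := by
  classical
  let π := MulAction.toPermHom G Ω
  have hext : ∀ (g : G) (M : SpecialLinearGroup (Fin 2) F),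
      g • L OnePoint.infty = mob L M (L OnePoint.infty) →
      (∀ y : F, g • L (y : OnePoint F) = mob L M (L (y : OnePoint F))) → mob L M = π g := by
    intro g M h1 h2
    refine Equiv.ext fun w => ?_
    obtain ⟨x, rfl⟩ := L.surjective w
    cases x with
    | infty => exact h1.symm
    | coe y => exact (h2 y).symm
  let up : F → SpecialLinearGroup (Fin 2) F := fun x => ⟨!![1, x; 0, 1], by simp [Matrix.det_fin_two]⟩
  let lo : F → SpecialLinearGroup (Fin 2) F := fun x => ⟨!![1, 0; x, 1], by simp [Matrix.det_fin_two]⟩
  have hup : ∀ x, mob L (up x) ∈ π.range := by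
    intro x
    obtain ⟨g, hg, hg'⟩ := htr x
    refine ⟨g, (hext g _ ?_ ?_).symm⟩
    · rw [mob_infty, if_pos (by simp [up]), hg]
    · intro y
      rw [mob_some, if_neg (by simp [up]), hg']
      simp [up, add_comm]
  have hlo : ∀ x, mob L (lo x) ∈ π.range := by
    intro x
    obtain ⟨g, hg, hg'⟩ := htr (c * x)
    refine ⟨s * g * s, (hext _ _ ?_ ?_).symm⟩
    · rw [mul_smul, mul_smul, hsi, hg', add_zero, mob_infty]
      by_cases hx : x = 0
      · subst hx; rw [if_pos (by simp [lo]), mul_zero, hs0]
      · rw [if_neg (by simp [lo, hx]), hs _ (mul_ne_zero hc hx)]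
        simp only [lo]
        congr 1
        simp
        field_simp
    · intro y
      rw [mul_smul, mul_smul, mob_some]
      by_cases hy : y = 0
      · subst hy
        rw [hs0, hg, hsi, if_neg (by simp [lo])]
        simp [lo]
      · rw [hs y hy, hg']
        by_cases hxy : x * y + 1 = 0
        · rw [if_pos (by simp [lo, hxy]), show c * x + c / y = 0 by
            rw [show c * x + c / y = c * ((x * y + 1) / y) by field_simp, hxy]; simp, hs0]
        · have hne : c * x + c / y ≠ 0 := by
            intro h
            apply hxy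
            field_simp at h
            first
              | exact h
              | (exact (mul_eq_zero.1 (by linear_combination h : c * (x * y + 1) = 0)).resolve_left hc)
          rw [if_neg (by simpa [lo] using hxy), hs _ hne]
          congr 1
          simp [lo]
          field_simp
  have hsub : (mob L).range ≤ π.range := by
    rintro _ ⟨M, rfl⟩
    have key : ∀ M : SpecialLinearGroup (Fin 2) F, M 1 0 ≠ 0 → mob L M ∈ π.range := by
      intro M hM
      have hdet := M.2
      rw [Matrix.det_fin_two] at hdet
      have e : M = up ((M 0 0 - 1) / M 1 0) * lo (M 1 0) * up ((M 1 1 - 1) / M 1 0) := by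
        refine Subtype.ext ?_
        change M.1 = (up ((M 0 0 - 1) / M 1 0)).1 * (lo (M 1 0)).1 * (up ((M 1 1 - 1) / M 1 0)).1
        simp only [up, lo, Matrix.mul_fin_two]
        conv_lhs => rw [Matrix.eta_fin_two M.1]
        congr <;> field_simp <;> first | linear_combination -hdet | linear_combination hdet | ring
      rw [e, map_mul, map_mul]
      exact mul_mem (mul_mem (hup _) (hlo _)) (hup _)
    by_cases hM : M 1 0 = 0
    · have hdet := M.2
      rw [Matrix.det_fin_two, hM, mul_zero, sub_zero] at hdet
      have h1 := key (lo 1 * M) (by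
        change ((lo 1).1 * M.1) 1 0 ≠ 0
        simp only [lo]
        rw [Matrix.mul_apply, Fin.sum_univ_two]
        simp [hM, left_ne_zero_of_mul_eq_one hdet])
      rw [map_mul] at h1
      exact (Subgroup.mul_mem_cancel_left _ (hlo 1)).1 h1
    · exact key M hM
  have hfixboth : ∀ g : G, g • L OnePoint.infty = L OnePoint.infty →
      g • L ((0 : F) : OnePoint F) = L ((0 : F) : OnePoint F) → π g ∈ (mob L).range := by
    intro g hg hg0
    obtain ⟨r, hr, hr'⟩ := hpair g hg hg0
    let D : SpecialLinearGroup (Fin 2) F := ⟨!![r, 0; 0, r⁻¹], by simp [Matrix.det_fin_two, hr]⟩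
    refine ⟨D, hext g D ?_ ?_⟩
    · rw [mob_infty, if_pos (by simp [D]), hg]
    · intro y
      rw [mob_some, if_neg (by simp [D, hr]), hr' y]
      simp [D, hr]
      field_simp
  have hfixinf : ∀ g : G, g • L OnePoint.infty = L OnePoint.infty → π g ∈ (mob L).range := by
    intro g hg
    obtain ⟨x, hx⟩ : ∃ x : F, g • L ((0 : F) : OnePoint F) = L (x : OnePoint F) := by
      obtain ⟨w, hw⟩ := L.surjective (g • L ((0 : F) : OnePoint F))
      cases w with
      | infty => exact absurd (L.injective (smul_left_cancel g (hg.trans hw))).symm (OnePoint.coe_ne_infty _)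
      | coe x => exact ⟨x, hw.symm⟩
    obtain ⟨t, ht, ht'⟩ := htr x
    have ht0 : t • L ((0 : F) : OnePoint F) = L (x : OnePoint F) := by rw [ht', add_zero]
    have h1 := hfixboth (t⁻¹ * g) (by rw [mul_smul, hg, inv_smul_eq_iff, ht])
      (by rw [mul_smul, hx, inv_smul_eq_iff, ht0])
    have hup' : π t ∈ (mob L).range := by
      refine ⟨up x, hext t _ ?_ ?_⟩
      · rw [mob_infty, if_pos (by simp [up]), ht]
      · intro y
        rw [mob_some, if_neg (by simp [up]), ht']
        simp [up, add_comm]
    have := mul_mem hup' h1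
    rwa [← map_mul, mul_inv_cancel_left] at this
  have hsmem : π s ∈ (mob L).range := by
    let W : SpecialLinearGroup (Fin 2) F := ⟨!![0, 1; -1, 0], by simp [Matrix.det_fin_two]⟩
    obtain ⟨g, hg⟩ := hsub ⟨W, rfl⟩
    have hgi : g • L OnePoint.infty = L ((0 : F) : OnePoint F) := by
      change π g _ = _
      rw [hg, mob_infty, if_neg (by simp [W])]
      simp [W]
    have hg0 : g • L ((0 : F) : OnePoint F) = L OnePoint.infty := by
      change π g _ = _
      rw [hg, mob_some, if_pos (by simp [W])]
    have h1 := hfixboth (g⁻¹ * s) (by rw [mul_smul, hsi, inv_smul_eq_iff, hgi])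
      (by rw [mul_smul, hs0, inv_smul_eq_iff, hg0])
    have := mul_mem (show π g ∈ (mob L).range from ⟨W, hg.symm⟩) h1
    rwa [← map_mul, mul_inv_cancel_left] at this
  have hsup : π.range ≤ (mob L).range := by
    rintro _ ⟨g, rfl⟩
    obtain ⟨w, hw⟩ := L.surjective (g • L OnePoint.infty)
    cases w with
    | infty => exact hfixinf g hw.symm
    | coe x =>
      obtain ⟨t, ht, ht'⟩ := htr x
      have h1 := hfixinf ((t * s)⁻¹ * g) (by
        rw [mul_smul, ← hw, inv_smul_eq_iff, mul_smul, hsi, ht', add_zero])
      have htm : π t ∈ (mob L).range := hfixinf t ht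
      have h2 := mul_mem (mul_mem htm hsmem) h1
      rwa [← map_mul, ← map_mul, mul_inv_cancel_left] at h2
  exact ⟨((MonoidHom.ofInjective (f := π) MulAction.toPerm_injective).trans
    (MulEquiv.subgroupCongr (le_antisymm hsup hsub))).trans
    ((QuotientGroup.quotientKerEquivRange (mob L)).symm.trans
      (QuotientGroup.quotientMulEquivOfEq (mob_ker L)))⟩

end Cfsg.Agent.Zassenhaus
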