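/-
The map induced on a field of odd order by an involution interchanging `0` and `∞`.

* `not_add_closed` : the squares are not closed under adding a non-zero square
* `swap_eq_div` : such a map is `y ↦ c / y`
-/
import Cfsg.Agent.EqLemmas

set_option autoImplicit false

namespace Cfsg.Agent.Zassenhaus

variable {F : Type*} [Field F] [Fintype F]

theorem card_squares_eq (hF : ringChar F ≠ 2) :
    2 * Nat.card {x : F // IsSquare x} = Nat.card F + 1 := by
  classical
  let sq : Fˣ →* Fˣ := powMonoidHom 2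
  have hk : Nat.card sq.ker = 2 := by
    have hne : (-1 : Fˣ) ≠ 1 := fun h => Ring.neg_one_ne_one_of_char_ne_two hF (by
      simpa using congrArg Units.val h)
    have : (sq.ker : Set Fˣ) = {1, -1} := by
      ext x
      simp only [SetLike.mem_coe, MonoidHom.mem_ker, sq, powMonoidHom_apply, Set.mem_insert_iff,
        Set.mem_singleton_iff]
      constructor
      · intro h
        have h' : (x : F) ^ 2 = 1 := by rw [← Units.val_pow_eq_pow_val, h, Units.val_one]
        rcases sq_eq_one_iff.1 h' with h1 | h1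
        · exact Or.inl (Units.ext h1)
        · exact Or.inr (Units.ext (by simpa using h1))
      · rintro (rfl | rfl) <;> simp
    have h2 := congrArg Set.ncard this
    rw [Set.ncard_pair hne.symm, ← Nat.card_coe_set_eq] at h2
    exact h2
  have h1 := Subgroup.card_mul_index sq.ker
  rw [Subgroup.index_ker, hk, Nat.card_units] at h1
  have h2 : Nat.card {x : F // IsSquare x} = Nat.card sq.range + 1 := by
    let e : Option sq.range ≃ {x : F // IsSquare x} := Equiv.ofBijective
      (fun o => o.elim ⟨0, IsSquare.zero⟩ fun x => ⟨((x : Fˣ) : F), by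
        obtain ⟨r, hr⟩ := x.2
        exact ⟨r, by rw [← hr]; simp [sq, pow_two]⟩⟩) (by
        constructor
        · intro x y h
          rcases x with _ | x <;> rcases y with _ | y
          · rfl
          · exact absurd (congrArg Subtype.val h).symm (Units.ne_zero _)
          · exact absurd (congrArg Subtype.val h) (Units.ne_zero _)
          · exact congrArg some (Subtype.ext (Units.ext (congrArg Subtype.val h :)))
        · rintro ⟨x, r, rfl⟩
          by_cases hr : r = 0
          · exact ⟨none, Subtype.ext (by simp [hr])⟩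
          · exact ⟨some ⟨Units.mk0 r hr ^ 2, _, rfl⟩, Subtype.ext (by simp [pow_two])⟩)
    rw [← Nat.card_congr e, Finite.card_option]
  have hq : 0 < Nat.card F := Nat.card_pos
  omega

theorem not_add_closed (hF : ringChar F ≠ 2) {c : F} (hc : IsSquare c) (hc0 : c ≠ 0) :
    ∃ u, IsSquare u ∧ ¬ IsSquare (u + c) := by
  by_contra h
  push Not at h
  have hadd : ∀ x y : F, IsSquare x → IsSquare y → IsSquare (x + y) := by
    intro x y hx hy
    by_cases hx0 : x = 0
    · rwa [hx0, zero_add]
    · have h1 := hx.mul ((hc.inv))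
      have h2 := h (c * y * x⁻¹) ((hc.mul hy).mul hx.inv)
      have : x + y = (x * c⁻¹) * (c * y * x⁻¹ + c) := by field_simp; ring
      rw [this]
      exact h1.mul h2
  let S : AddSubmonoid F :=
    { carrier := {x | IsSquare x}, add_mem' := fun {x y} => hadd x y, zero_mem' := IsSquare.zero }
  let T : AddSubgroup F :=
    { S with
      neg_mem' := fun {x} hx => by
        have : -x = (ringChar F - 1) • x := by
          have hp : (ringChar F : F) = 0 := CharP.cast_eq_zero F (ringChar F)
          have h1 : 1 ≤ ringChar F := Nat.pos_of_ne_zero (CharP.ringChar_ne_zero_of_finite F)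
          rw [nsmul_eq_mul, Nat.cast_sub h1, hp]; simp
        rw [this]
        exact S.nsmul_mem hx _ }
  have h1 := AddSubgroup.card_addSubgroup_dvd_card T
  have h2 := card_squares_eq hF
  have h3 : Nat.card T = Nat.card {x : F // IsSquare x} := rfl
  obtain ⟨k, hk⟩ := h1
  have h4 : 1 < Nat.card F := Finite.one_lt_card
  rcases k with _ | _ | k
  · omega
  · omega
  · nlinarith [Nat.zero_le k, (Nat.card T).zero_le]

variable {f : F → F}

/-- A map with the properties of an involution interchanging `0` and `∞` is `y ↦ c / y`. -/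
theorem swap_eq_div (hF : ringChar F ≠ 2) (hf0 : ∀ y, y ≠ 0 → f y ≠ 0)
    (hsq : ∀ x y, x ≠ 0 → y ≠ 0 → f (x ^ 2 * y) = (x ^ 2)⁻¹ * f y)
    (hff : ∀ y, y ≠ 0 → f (f y) = y)
    (hnofix : ¬ IsSquare (-1 : F) → ∀ r r', r ≠ 0 → r' ≠ 0 → f r = r → f r' = r' → r = r')
    (hid : IsSquare (-1 : F) → ∀ u, u ≠ 0 → u + f 1 ≠ 0 → 1 + f u ≠ 0 →
      f (1 + f u) = f 1 - f 1 * f (u + f 1)) :
    ∀ y, y ≠ 0 → f y = f 1 / y := by
  classical
  obtain ⟨ν, hν⟩ := FiniteField.exists_nonsquare hF
  have hν0 : ν ≠ 0 := fun h => hν (h ▸ IsSquare.zero)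
  set c := f 1 with hc
  set c' := f ν * ν with hc'
  have hc0 : c ≠ 0 := hf0 1 one_ne_zero
  have hc'0 : c' ≠ 0 := mul_ne_zero (hf0 ν hν0) hν0
  have hmul : ∀ x y : F, x ≠ 0 → ¬ IsSquare x → y ≠ 0 → ¬ IsSquare y → IsSquare (x * y) := by
    intro x y hx hxs hy hys
    rw [FiniteField.isSquare_iff hF (mul_ne_zero hx hy), mul_pow]
    rw [FiniteField.isSquare_iff hF hx] at hxs
    rw [FiniteField.isSquare_iff hF hy] at hys
    rw [(FiniteField.pow_dichotomy hF hx).resolve_left hxs,
      (FiniteField.pow_dichotomy hF hy).resolve_left hys]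
    ring
  have hS : ∀ y, y ≠ 0 → IsSquare y → f y = c / y := by
    rintro y hy ⟨x, rfl⟩
    have hx : x ≠ 0 := left_ne_zero_of_mul hy
    rw [show x * x = x ^ 2 * 1 by ring, hsq x 1 hx one_ne_zero, ← hc]
    field_simp
  have hN : ∀ y, y ≠ 0 → ¬ IsSquare y → f y = c' / y := by
    intro y hy hys
    obtain ⟨x, hx⟩ := hmul y ν⁻¹ hy hys (inv_ne_zero hν0) (fun h => hν (by simpa using h.inv))
    have hy' : y = x ^ 2 * ν := by rw [pow_two, ← hx, inv_mul_cancel_right₀ hν0]
    have hx0 : x ≠ 0 := fun h => hy (by rw [hy', h]; simp)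
    rw [hy', hsq x ν hx0 hν0, hc']
    field_simp
  suffices c' = c by
    intro y hy
    by_cases hys : IsSquare y
    · exact hS y hy hys
    · rw [hN y hy hys, this]
  by_cases hcs : IsSquare c
  swap
  · -- squares and non-squares are interchanged
    have h1 := hff 1 one_ne_zero
    rw [← hc, hN c hc0 hcs, div_eq_one_iff_eq hc0] at h1
    exact h1
  have hc's : IsSquare c' := by
    by_contra h
    have h1 : IsSquare (c' / ν) := by rw [div_eq_mul_inv]; exact hmul _ _ hc'0 h (inv_ne_zero hν0) (fun h' => hν (by simpa using h'.inv))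
    have h2 := hff ν hν0
    rw [hN ν hν0 hν, hS _ (div_ne_zero hc'0 hν0) h1, div_eq_iff (div_ne_zero hc'0 hν0), mul_div_cancel₀ _ hν0] at h2
    exact h (h2 ▸ hcs)
  by_cases hm1 : IsSquare (-1 : F)
  · obtain ⟨u, hu, huc⟩ := not_add_closed hF hcs hc0
    have hu0 : u ≠ 0 := by rintro rfl; exact huc (by rwa [zero_add])
    have hsum : u + c ≠ 0 := fun h => huc (h ▸ IsSquare.zero)
    have e1 : 1 + f u = (u + c) / u := by rw [hS u hu0 hu]; field_simp
    have hns : ¬ IsSquare ((u + c) / u) := fun h => huc (by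
      have h' := h.mul hu
      rwa [div_mul_cancel₀ _ hu0] at h')
    have e2 := hid hm1 u hu0 hsum (by rw [e1]; exact div_ne_zero hsum hu0)
    rw [e1, hN _ (div_ne_zero hsum hu0) hns, hN _ hsum huc] at e2
    have e3 : c' * u = c * (u + c) - c * c' := by
      have := congrArg (fun z => z * (u + c)) e2
      field_simp at this
      linear_combination this
    have e4 : (c' - c) * (u + c) = 0 := by linear_combination e3
    exact sub_eq_zero.1 ((mul_eq_zero.1 e4).resolve_right hsum)
  · -- two fixed points would appear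
    exfalso
    have hneg : ∀ r : F, r ≠ 0 → ¬ IsSquare r → IsSquare (-r) := fun r hr hrs => by
      have := hmul (-1) r (neg_ne_zero.2 one_ne_zero) hm1 hr hrs
      simpa using this
    have hneg' : ∀ r : F, r ≠ 0 → IsSquare r → ¬ IsSquare (-r) := fun r hr hrs h => hm1 (by
      have := h.mul hrs.inv
      rwa [neg_mul, mul_inv_cancel₀ hr] at this)
    obtain ⟨r, hrc, hrs⟩ : ∃ r, r * r = c ∧ IsSquare r := by
      obtain ⟨r, hr⟩ := hcs
      by_cases hrs : IsSquare r
      · exact ⟨r, hr.symm, hrs⟩
      · exact ⟨-r, by rw [hr]; ring, hneg r (fun h => hc0 (by rw [hr, h, mul_zero])) hrs⟩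
    obtain ⟨r', hrc', hrs'⟩ : ∃ r, r * r = c' ∧ ¬ IsSquare r := by
      obtain ⟨r, hr⟩ := hc's
      by_cases hrs : IsSquare r
      · exact ⟨-r, by rw [hr]; ring, hneg' r (fun h => hc'0 (by rw [hr, h, mul_zero])) hrs⟩
      · exact ⟨r, hr.symm, hrs⟩
    have hr0 : r ≠ 0 := fun h => hc0 (by rw [← hrc, h, mul_zero])
    have hr'0 : r' ≠ 0 := fun h => hc'0 (by rw [← hrc', h, mul_zero])
    have := hnofix hm1 r r' hr0 hr'0
      (by rw [hS r hr0 hrs, div_eq_iff hr0]; exact hrc.symm)
      (by rw [hN r' hr'0 hrs', div_eq_iff hr'0]; exact hrc'.symm)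
    exact hrs' (this ▸ hrs)

end Cfsg.Agent.Zassenhaus
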