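/-
Zassenhaus groups of degree `q + 1` with `q - 1 = 2d` and abelian point kernel are `PSL₂(q)`.

* `exists_psl2` : the recognition theorem
-/
import Cfsg.Agent.Lib.Zassenhaus.Basic
import Cfsg.Agent.Lib.Zassenhaus.SwapMap
import Cfsg.Agent.Lib.Zassenhaus.PSLModel
import Cfsg.Agent.Lib.Zassenhaus.LineField

set_option autoImplicit false

open MulAction

namespace Cfsg.Agent.Zassenhaus

variable {G Ω : Type*} [Group G] [Finite G] [MulAction G Ω] [Finite Ω]

set_option maxHeartbeats 1000000 in
/-- **Recognition of `PSL₂(q)`**, `q` odd. -/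
theorem exists_psl2 (hZ : Cfsg.IsZassenhausGroup G Ω) {a b : Ω} (hab : a ≠ b) (H : Subgroup G)
    (hHa : H ≤ stabilizer G a) (hHn : ∀ t ∈ stabilizer G a, ∀ u ∈ H, t * u * t⁻¹ ∈ H)
    (hHcard : Nat.card H = Nat.card Ω - 1)
    (hHfix : ∀ u ∈ H, u ≠ 1 → ∀ c : Ω, u • c = c → c = a)
    (hHcomm : ∀ u ∈ H, ∀ v ∈ H, u * v = v * u)
    (hd : Nat.card Ω - 2 = 2 * Nat.card ↥(stabilizer G a ⊓ stabilizer G b))
    (s : G) (hsa : s • a = b) (hsb : s • b = a) (hss : s * s = 1)
    (hinv : ∀ h ∈ stabilizer G a ⊓ stabilizer G b, s * h * s⁻¹ = h⁻¹) :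
    ∃ (p f : ℕ) (K : Type) (_ : Field K) (_ : Fintype K), p.Prime ∧ p ≠ 2 ∧ 3 < Fintype.card K ∧
      Fintype.card K = p ^ f ∧ Nat.card Ω = p ^ f + 1 ∧
      Nonempty (G ≃* Matrix.ProjectiveSpecialLinearGroup (Fin 2) K) := by
  classical
  have := Fintype.ofFinite Ω
  have := Fintype.ofFinite G
  haveI := hZ.1
  set E := stabilizer G a ⊓ stabilizer G b with hE
  set d := Nat.card E with hdd
  have hn3 := three_le_card hZ
  have hd2 : 2 ≤ d := by
    obtain ⟨h, h1, ha, hb⟩ := exists_fix_pair hZ hab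
    have : Nontrivial E := ⟨⟨⟨h, ha, hb⟩, 1, fun e => h1 (congrArg Subtype.val e)⟩⟩
    exact Finite.one_lt_card
  have hEcomm : ∀ e ∈ E, ∀ e' ∈ E, e * e' = e' * e := by
    intro x hx y hy
    have h3 : (x * y)⁻¹ = x⁻¹ * y⁻¹ := by
      rw [← hinv _ (mul_mem hx hy), ← hinv x hx, ← hinv y hy]; group
    have h4 := congrArg (fun u => u⁻¹) h3
    simpa using h4
  have hEH : ∀ e ∈ E, ∀ u ∈ H, e * u * e⁻¹ ∈ H := fun e he => hHn e he.1
  -- the module `Additive H`
  letI : CommGroup H := { (inferInstance : Group H) with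
    mul_comm := fun u v => Subtype.ext (hHcomm u u.2 v v.2) }
  let conjH : E → H →* H := fun e =>
    { toFun := fun u => ⟨(e : G) * u * (e : G)⁻¹, hEH e e.2 u u.2⟩
      map_one' := Subtype.ext (by simp)
      map_mul' := fun u v => Subtype.ext (by simp [mul_assoc]) }
  let ψ : E → AddMonoid.End (Additive H) := fun e => MonoidHom.toAdditive (conjH e)
  have hψ : ∀ (e : E) (u : Additive H),
      ((Additive.toMul (ψ e u) : H) : G) = (e : G) * (Additive.toMul u : H) * (e : G)⁻¹ := fun e u => rfl
  let val : Additive H → G := fun u => ((Additive.toMul u : H) : G)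
  have hvalinj : Function.Injective val := fun u v h => Additive.toMul.injective (Subtype.ext h)
  have hψmul : ∀ (e e' : E) (u : Additive H), ψ e (ψ e' u) = ψ (e * e') u := fun e e' u =>
    hvalinj (by
      change (e : G) * ((e' : G) * val u * (e' : G)⁻¹) * (e : G)⁻¹ = ((e : G) * e') * val u * ((e : G) * e')⁻¹
      group)
  have hψfree : ∀ (u : Additive H), u ≠ 0 → ∀ e e' : E, ψ e u = ψ e' u → e = e' := by
    intro u hu e e' h
    have h1 : ψ (e'⁻¹ * e) u = u := by
      rw [← hψmul, h, hψmul, inv_mul_cancel]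
      exact hvalinj (by change (1 : G) * val u * (1 : G)⁻¹ = val u; simp)
    by_contra hne
    have hk : (((e'⁻¹ * e : E) : G)) ≠ 1 := fun h' => hne (inv_mul_eq_one.1 (Subtype.ext h')).symm
    have hk1 : ((e'⁻¹ * e : E) : G) * val u * ((e'⁻¹ * e : E) : G)⁻¹ = val u := congrArg val h1
    have hu1 : val u ≠ 1 := fun h' => hu (hvalinj h')
    have hfix : ((e'⁻¹ * e : E) : G) • (val u • b) = val u • b := by
      rw [← mul_smul, mul_inv_eq_iff_eq_mul.1 hk1, mul_smul,
        show ((e'⁻¹ * e : E) : G) • b = b from (e'⁻¹ * e).2.2]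
    rcases eq_left_or_eq_right hZ hk hab (e'⁻¹ * e).2.1 (e'⁻¹ * e).2.2 hfix with h' | h'
    · exact hab.symm (smul_left_cancel (val u) (h'.trans
        (show val u • a = a from hHa (Additive.toMul u : H).2).symm))
    · exact hab.symm (hHfix (val u) (Additive.toMul u : H).2 hu1 b h')
  have hVcard : Nat.card (Additive H) = Nat.card Ω - 1 := hHcard
  obtain ⟨v₀, hv₀⟩ : ∃ v : Additive H, v ≠ 0 := by
    haveI : Nontrivial (Additive H) := Finite.one_lt_card_iff_nontrivial.1 (by omega)
    exact exists_ne 0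
  obtain ⟨p, hp, f, hf, σ, hσ1, hσ⟩ := exists_field_of_irreducible (Set.range ψ)
    (by
      rintro _ ⟨e, rfl⟩ _ ⟨e', rfl⟩
      refine AddMonoidHom.ext fun u => ?_
      change ψ e (ψ e' u) = ψ e' (ψ e u)
      rw [hψmul, hψmul, show e * e' = e' * e from Subtype.ext (hEcomm e e.2 e' e'.2)])
    (by
      intro W hW
      by_contra hne
      push Not at hne
      obtain ⟨w, hw, hw0⟩ := (AddSubgroup.ne_bot_iff_exists_ne_zero.1 hne.1 |>.elim
        fun w hw => ⟨(w : Additive H), w.2, fun h => hw (Subtype.ext h)⟩ :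
          ∃ w : Additive H, w ∈ W ∧ w ≠ 0)
      have h1 : d + 1 ≤ Nat.card W := by
        let g : Option E → W := fun o => o.elim 0 fun e => ⟨ψ e w, hW _ ⟨e, rfl⟩ w hw⟩
        have hg : Function.Injective g := by
          intro x y h
          have hne0 : ∀ e : E, ψ e w ≠ 0 := by
            intro e h0
            apply hw0
            have : ψ (e⁻¹ * e) w = 0 := by rw [← hψmul, h0, map_zero]
            rw [inv_mul_cancel] at this
            rw [← this]
            exact hvalinj (by change val w = (1 : G) * val w * (1 : G)⁻¹; simp)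
          rcases x with _ | x <;> rcases y with _ | y
          · rfl
          · exact absurd (congrArg Subtype.val h).symm (hne0 y)
          · exact absurd (congrArg Subtype.val h) (hne0 x)
          · exact congrArg some (hψfree w hw0 x y (congrArg Subtype.val h))
        have := Nat.card_le_card_of_injective g hg
        rwa [Finite.card_option, ← hdd] at this
      have h2 := AddSubgroup.card_mul_index W
      have h3 : W.index ≠ 1 := fun h => hne.2 (AddSubgroup.index_eq_one.1 h)
      have h4 : W.index ≠ 0 := AddSubgroup.index_ne_zero_of_finite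
      have h5 : Nat.card W * 2 ≤ Nat.card W * W.index := Nat.mul_le_mul_left _ (by omega)
      omega)
    hv₀
  let F := GaloisField p f
  have := Fintype.ofFinite F
  have hFcard : Fintype.card F = Nat.card Ω - 1 := by
    rw [← Nat.card_eq_fintype_card, Nat.card_congr σ.toEquiv, hVcard]
  have hcardpf : Fintype.card F = p ^ f := by
    rw [← Nat.card_eq_fintype_card]; exact GaloisField.card p f hf
  have hq : Fintype.card F = 2 * d + 1 := by omega
  have hp2 : p ≠ 2 := by
    rintro rfl
    have h := dvd_pow_self 2 hf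
    rw [← hcardpf, hq] at h
    omega
  have hchar : ringChar F ≠ 2 := by rw [ringChar.eq F p]; exact hp2
  -- coordinates
  let u : F → G := fun x => val (σ x)
  have hu_mem : ∀ x, u x ∈ H := fun x => (Additive.toMul (σ x) : H).2
  have hu_add : ∀ x y, u (x + y) = u x * u y := fun x y => by
    change val (σ (x + y)) = _
    rw [map_add]; rfl
  have hu0 : u 0 = 1 := by change val (σ 0) = 1; rw [map_zero]; rfl
  have hua : ∀ x, u x • a = a := fun x => hHa (hu_mem x)
  have huinj : ∀ x, u x = 1 → x = 0 := fun x h => by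
    have : σ x = σ 0 := hvalinj (h.trans hu0.symm)
    exact σ.injective this
  have hPinj : ∀ x y, u x • b = u y • b → x = y := by
    intro x y h
    by_contra hne
    have h1 : u (-y + x) • b = b := by
      rw [hu_add, mul_smul, h, ← mul_smul, ← hu_add, neg_add_cancel, hu0, one_smul]
    exact hab.symm (hHfix _ (hu_mem _) (fun e => hne (by
      have := huinj _ e
      linear_combination this)) b h1)
  have hPa : ∀ x, u x • b ≠ a := fun x h =>
    hab.symm (smul_left_cancel (u x) (h.trans (hua x).symm))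
  have hPsurj : ∀ c, c ≠ a → ∃ x, u x • b = c := by
    intro c hc
    have hb : Function.Bijective (fun x : F => (⟨u x • b, hPa x⟩ : {c : Ω // c ≠ a})) := by
      rw [Fintype.bijective_iff_injective_and_card]
      refine ⟨fun x y h => hPinj x y (congrArg Subtype.val h), ?_⟩
      rw [hFcard, Fintype.card_subtype_compl, Fintype.card_subtype_eq, Nat.card_eq_fintype_card]
    obtain ⟨x, hx⟩ := hb.2 ⟨c, hc⟩
    exact ⟨x, congrArg Subtype.val hx⟩
  let L : OnePoint F ≃ Ω := Equiv.ofBijective (fun x => OnePoint.elim x a fun y => u y • b) (by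
    constructor
    · intro x y h
      cases x with
      | infty => cases y with
        | infty => rfl
        | coe y => exact absurd (h : a = u y • b).symm (hPa y)
      | coe x => cases y with
        | infty => exact absurd (h : u x • b = a) (hPa x)
        | coe y => exact congrArg _ (hPinj x y h)
    · intro c
      by_cases hc : c = a
      · exact ⟨OnePoint.infty, hc.symm⟩
      · obtain ⟨x, hx⟩ := hPsurj c hc
        exact ⟨(x : OnePoint F), hx⟩)
  have hLi : L OnePoint.infty = a := rfl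
  have hLc : ∀ y : F, L (y : OnePoint F) = u y • b := fun y => rfl
  have hL0 : L ((0 : F) : OnePoint F) = b := by rw [hLc, hu0, one_smul]
  have hlam : ∀ e : E, ∃ r : F, ∀ x, (e : G) • (u x • b) = u (r * x) • b := by
    intro e
    obtain ⟨r, hr⟩ := hσ _ ⟨e, rfl⟩
    refine ⟨r, fun x => ?_⟩
    have h1 : (e : G) * u x * (e : G)⁻¹ = u (r * x) := congrArg val (hr x)
    rw [← h1, mul_smul, mul_smul, show (e : G)⁻¹ • b = b from (inv_mem e.2 : (e : G)⁻¹ ∈ E).2]
  choose lam hlam' using hlam
  have hlam_mul : ∀ e e' : E, lam (e * e') = lam e * lam e' := by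
    intro e e'
    have h1 := hlam' (e * e') 1
    rw [Subgroup.coe_mul, mul_smul, hlam', hlam', mul_one, mul_one] at h1
    exact (hPinj _ _ h1).symm
  have hlam_one : lam 1 = 1 := by
    have h1 := hlam' 1 1
    rw [Subgroup.coe_one, one_smul, mul_one] at h1
    exact (hPinj _ _ h1).symm
  have hlam_inj : Function.Injective lam := by
    intro e e' h
    by_contra hne
    have h1 : ((e'⁻¹ * e : E) : G) • (u 1 • b) = u 1 • b := by
      rw [Subgroup.coe_mul, mul_smul, hlam', h, ← hlam' e' 1, Subgroup.coe_inv, inv_smul_smul]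
    rcases eq_left_or_eq_right hZ (fun e1 => hne (inv_mul_eq_one.1 (Subtype.ext e1)).symm) hab
        (e'⁻¹ * e).2.1 (e'⁻¹ * e).2.2 h1 with h' | h'
    · exact hPa 1 h'
    · exact one_ne_zero (hPinj 1 0 (by rw [h', hu0, one_smul]))
  let lamHom : E →* F := { toFun := lam, map_one' := hlam_one, map_mul' := hlam_mul }
  have hlam_pow : ∀ e : E, lam e ^ d = 1 := by
    intro e
    change lamHom e ^ d = 1
    rw [← map_pow, hdd, pow_card_eq_one', map_one]
  have hlam_sq : ∀ x : F, x ≠ 0 → (IsSquare x ↔ ∃ e, lam e = x) := by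
    intro x hx
    rw [FiniteField.isSquare_iff hchar hx, show Fintype.card F / 2 = d by omega]
    constructor
    · intro h
      let S : Finset F := Finset.univ.image lam
      have hS : S.card = d := by
        rw [Finset.card_image_of_injective _ hlam_inj, Finset.card_univ, ← Nat.card_eq_fintype_card]
      have hsub : S ⊆ (Polynomial.nthRoots d (1 : F)).toFinset := by
        intro y hy
        obtain ⟨e, -, rfl⟩ := Finset.mem_image.1 hy
        rw [Multiset.mem_toFinset, Polynomial.mem_nthRoots (by omega)]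
        exact hlam_pow e
      have heq := Finset.eq_of_subset_of_card_le hsub
        (((Multiset.toFinset_card_le _).trans (Polynomial.card_nthRoots d 1)).trans hS.ge)
      have : x ∈ S := by
        rw [heq, Multiset.mem_toFinset, Polynomial.mem_nthRoots (by omega)]
        exact h
      obtain ⟨e, -, he⟩ := Finset.mem_image.1 this
      exact ⟨e, he⟩
    · rintro ⟨e, rfl⟩
      exact hlam_pow e
  have hlam0 : ∀ e, lam e ≠ 0 := fun e h => by
    have := hlam_pow e
    rw [h, zero_pow (by omega)] at this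
    exact zero_ne_one this
  -- the swapping involution
  have hsx : ∀ x : F, x ≠ 0 → ∃ y : F, y ≠ 0 ∧ s • (u x • b) = u y • b := by
    intro x hx
    obtain ⟨y, hy⟩ := hPsurj (s • (u x • b)) (fun h => by
      have : u x • b = b := smul_left_cancel s (h.trans hsb.symm)
      exact hx (hPinj x 0 (by rw [this, hu0, one_smul])))
    refine ⟨y, ?_, hy.symm⟩
    rintro rfl
    rw [hu0, one_smul] at hy
    exact hPa x (smul_left_cancel s (hy.symm.trans hsa.symm))
  choose! fs hfs0 hfs using hsx
  have hfs' : ∀ x : F, x ≠ 0 → s • L (x : OnePoint F) = L (fs x : OnePoint F) := hfs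
  have hsq : ∀ x y : F, x ≠ 0 → y ≠ 0 → fs (x ^ 2 * y) = (x ^ 2)⁻¹ * fs y := by
    intro x y hx hy
    obtain ⟨e, he⟩ := (hlam_sq (x ^ 2) (pow_ne_zero 2 hx)).1 ⟨x, pow_two x⟩
    have h1 : s • ((e : G) • (u y • b)) = ((e⁻¹ : E) : G) • (s • (u y • b)) := by
      simp only [← mul_smul]
      congr 1
      rw [Subgroup.coe_inv, ← hinv e e.2]
      group
    rw [hlam', he, hfs _ (mul_ne_zero (pow_ne_zero 2 hx) hy), hfs y hy, hlam'] at h1
    rw [hPinj _ _ h1]
    congr 1
    have := hlam_mul e⁻¹ e
    rw [inv_mul_cancel, hlam_one, he] at this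
    exact (eq_inv_of_mul_eq_one_left this.symm)
  have hff : ∀ y : F, y ≠ 0 → fs (fs y) = y := by
    intro y hy
    apply hPinj
    rw [← hfs _ (hfs0 y hy), ← hfs y hy, ← mul_smul, hss, one_smul]
  have hnofix : ¬ IsSquare (-1 : F) → ∀ r r', r ≠ 0 → r' ≠ 0 → fs r = r → fs r' = r' → r = r' := by
    intro hm1 r r' hr hr' h h'
    by_contra hne
    apply hm1
    -- `s` fixes two points, so the two-point stabiliser has even order
    have hs1 : s ≠ 1 := fun e => hab (by rw [← hsa, e, one_smul])
    obtain ⟨g, hg, hg'⟩ := exists_smul_pair hZ (a := u r • b) (b := u r' • b)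
      (fun e => hne (hPinj _ _ e)) hab
    have hmem : g * s * g⁻¹ ∈ E := by
      constructor
      · change (g * s * g⁻¹) • a = a
        rw [mul_smul, mul_smul, ← hg, inv_smul_smul, hfs r hr, h]
      · change (g * s * g⁻¹) • b = b
        rw [mul_smul, mul_smul, ← hg', inv_smul_smul, hfs r' hr', h']
    have hord : orderOf (g * s * g⁻¹) = 2 := by
      refine orderOf_eq_prime ?_ ?_
      · rw [pow_two, show g * s * g⁻¹ * (g * s * g⁻¹) = g * (s * s) * g⁻¹ by group, hss]; group
      · intro e
        exact hs1 (by simpa [mul_inv_eq_one] using e)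
    have heven : 2 ∣ d := hord ▸ Subgroup.orderOf_dvd_natCard E hmem
    rw [FiniteField.isSquare_iff hchar (neg_ne_zero.2 one_ne_zero), show Fintype.card F / 2 = d by omega]
    exact Even.neg_one_pow (even_iff_two_dvd.2 heven)
  have hid : IsSquare (-1 : F) → ∀ v, v ≠ 0 → v + fs 1 ≠ 0 → 1 + fs v ≠ 0 →
      fs (1 + fs v) = fs 1 - fs 1 * fs (v + fs 1) := by
    intro hm1 v hv hvc h1v
    set c := fs 1 with hc
    have hc0 : c ≠ 0 := hfs0 1 one_ne_zero
    have hut : ∀ x y : F, u x • (u y • b) = u (x + y) • b := fun x y => by rw [← mul_smul, ← hu_add]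
    have hfm1 : fs (-1) = -c := by
      obtain ⟨i, hi⟩ := hm1
      have hi0 : i ≠ 0 := fun e => by simp [e] at hi
      have := hsq i 1 hi0 one_ne_zero
      rw [mul_one, pow_two, ← hi] at this
      rw [this, inv_neg, inv_one, neg_one_mul]
    have hfmc : fs (-c) = -1 := by rw [← hfm1, hff (-1) (neg_ne_zero.2 one_ne_zero)]
    set g := u (-c) * s * u 1 * s * u (-c) with hg
    have hgb : g • b = a := by
      rw [hg, mul_smul, mul_smul, mul_smul, mul_smul, hfs _ (neg_ne_zero.2 hc0), hfmc, hut,
        add_neg_cancel, hu0, one_smul, hsb, hua]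
    have hga : g • a = b := by
      rw [hg, mul_smul, mul_smul, mul_smul, mul_smul, hua, hsa, hfs 1 one_ne_zero, ← hc, hut,
        neg_add_cancel, hu0, one_smul]
    have heE : g * s ∈ E := ⟨show (g * s) • a = a by rw [mul_smul, hsa, hgb],
      show (g * s) • b = b by rw [mul_smul, hsb, hga]⟩
    set e : E := ⟨g * s, heE⟩ with hedef
    have hge : ∀ y : F, y ≠ 0 → g • (u y • b) = u (lam e * fs y) • b := by
      intro y hy
      rw [← hlam', ← hfs y hy]
      simp only [← mul_smul, ← mul_assoc]
      rw [show ((e : G) * s) = g by change g * s * s = g; rw [mul_assoc, hss, mul_one]]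
    have h1 := hge c hc0
    rw [hg, mul_smul, mul_smul, mul_smul, mul_smul, hut, neg_add_cancel, hu0, one_smul, hsb, hua,
      hsa, ← add_zero (-c), hu_add, hu0, mul_one, hff 1 one_ne_zero, mul_one] at h1
    have hle : lam e = -c := (hPinj _ _ h1).symm
    have hvc' : v + c ≠ 0 := hvc
    have h2 := hge (v + c) hvc'
    rw [hg, mul_smul, mul_smul, mul_smul, mul_smul, hut, neg_add_cancel_comm_assoc, hfs v hv, hut,
      hfs _ h1v, hut, hle] at h2
    have h3 := hPinj _ _ h2
    linear_combination h3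
  have hdiv := swap_eq_div hchar hfs0 hsq hff hnofix hid
  refine ⟨p, f, F, inferInstance, inferInstance, hp.out, hp2, by omega, hcardpf, by omega, ?_⟩
  refine iso_of_coords L ?_ ?_ ?_ s (fs 1) (hfs0 1 one_ne_zero) ?_ ?_ ?_
  · intro x
    refine ⟨u x, hua x, fun y => ?_⟩
    rw [hLc, hLc, ← mul_smul, ← hu_add]
  · intro r hr
    obtain ⟨e, he⟩ := (hlam_sq (r * r) (mul_ne_zero hr hr)).1 ⟨r, rfl⟩
    exact ⟨e, e.2.1, fun y => by rw [hLc, hLc, hlam', he]⟩
  · intro g hga hgb
    rw [hL0] at hgb
    obtain ⟨r, hr⟩ := (hlam_sq (lam ⟨g, hga, hgb⟩) (hlam0 _)).2 ⟨_, rfl⟩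
    refine ⟨r, fun h => hlam0 _ (by rw [hr, h, mul_zero]), fun y => ?_⟩
    rw [hLc, hLc, ← hr]
    exact hlam' ⟨g, hga, hgb⟩ y
  · rw [hL0]; exact hsa
  · rw [hL0]; exact hsb
  · intro y hy
    rw [hfs' y hy, hdiv y hy]

end Cfsg.Agent.Zassenhaus
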