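/-
Zassenhaus groups with two-point stabiliser of even order `d` with `2 d ≤ n - 2` are `PSL₂(q)`.

* `even_permutations` : every element is an even permutation
* `even_fix_two` : every involution fixes exactly two points
* `even_psl2` : the classification
-/
import Cfsg.Agent.Lib.Zassenhaus.FixTwo
import Cfsg.Agent.Lib.Zassenhaus.Kernel
import Cfsg.Agent.Lib.Zassenhaus.PSL
import Cfsg.Agent.Lib.Perm.Zassenhaus
import Cfsg.Agent.S0741
import Cfsg.Agent.EqLemmas

set_option autoImplicit false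

open MulAction

namespace Cfsg.Agent.Zassenhaus

variable {G Ω : Type*} [Group G] [Finite G] [MulAction G Ω] [Finite Ω]

theorem sign_involution [DecidableEq Ω] [Fintype Ω] (hZ : Cfsg.IsZassenhausGroup G Ω) {t : G}
    (ht : orderOf t = 2) :
    Equiv.Perm.sign (MulAction.toPermHom G Ω t) =
      (-1) ^ ((Nat.card Ω - Nat.card (fixedBy Ω t)) / 2) := by
  classical
  haveI := hZ.1
  let π := MulAction.toPermHom G Ω
  have ho : orderOf (π t) = 2 := by
    rw [orderOf_injective π (MulAction.toPerm_injective) t, ht]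
  obtain ⟨j, hj⟩ := Equiv.Perm.cycleType_prime_order (σ := π t) (by rw [ho]; exact Nat.prime_two)
  have hsum := Equiv.Perm.sum_cycleType (π t)
  rw [ho] at hj
  rw [hj, Multiset.sum_replicate, smul_eq_mul] at hsum
  have hsupp : (π t).support = (Finset.univ.filter fun c : Ω => t • c = c)ᶜ := by
    ext c
    simp [π]
  have hfix : Nat.card (fixedBy Ω t) = (Finset.univ.filter fun c : Ω => t • c = c).card := by
    rw [← Fintype.card_subtype, ← Nat.card_eq_fintype_card]
    rfl
  rw [Equiv.Perm.sign_of_cycleType, hj, Multiset.sum_replicate, smul_eq_mul, Multiset.card_replicate,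
    hfix, Nat.card_eq_fintype_card, ← Finset.card_compl, ← hsupp, ← hsum,
    Nat.mul_div_cancel _ (by norm_num : 0 < 2), pow_add, pow_mul]
  have : ((-1 : ℤˣ) ^ (j + 1)) ^ 2 = 1 := by rw [← pow_mul, mul_comm, pow_mul]; simp
  rw [this, one_mul]

theorem even_permutations [DecidableEq Ω] [Fintype Ω] (hZ : Cfsg.IsZassenhausGroup G Ω) {a b : Ω}
    (hab : a ≠ b) (heven : Even (Nat.card ↥(stabilizer G a ⊓ stabilizer G b)))
    (hcard : Nat.card Ω - 2 = 2 * Nat.card ↥(stabilizer G a ⊓ stabilizer G b)) :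
    ∀ g : G, Equiv.Perm.sign (MulAction.toPermHom G Ω g) = 1 := by
  classical
  set E := stabilizer G a ⊓ stabilizer G b with hE
  have hn3 := three_le_card hZ
  let f : G →* ℤˣ := Equiv.Perm.sign.comp (MulAction.toPermHom G Ω)
  by_contra hne
  push Not at hne
  obtain ⟨g, hg⟩ := hne
  obtain ⟨⟨z, hzE⟩, hz⟩ := exists_prime_orderOf_dvd_card' (G := E) 2 heven.two_dvd
  have hzo : orderOf z = 2 := (Subgroup.orderOf_coe _).trans hz
  have hz1 : z ≠ 1 := fun h => by simp [h] at hzo
  have hzfix : Nat.card (fixedBy Ω z) = 2 := by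
    refine le_antisymm (card_fixedBy_le_two hZ hz1) ?_
    rw [Nat.card_coe_set_eq, ← Set.ncard_pair hab]
    refine Set.ncard_le_ncard ?_ (Set.toFinite _)
    rintro c (rfl | rfl)
    · exact hzE.1
    · exact hzE.2
  have hzker : z ∈ f.ker := by
    rw [MonoidHom.mem_ker]
    change Equiv.Perm.sign (MulAction.toPermHom G Ω z) = 1
    rw [sign_involution hZ hzo, hzfix, hcard, Nat.mul_div_cancel_left _ (by norm_num : 0 < 2)]
    exact heven.neg_one_pow
  have hNne : f.ker ≠ ⊥ := fun h => hz1 (by rwa [h, Subgroup.mem_bot] at hzker)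
  have hZN := Perm.zassenhaus_normal hZ hNne
  let E' : Subgroup f.ker := stabilizer f.ker a ⊓ stabilizer f.ker b
  have hidx : f.ker.index = 2 := by
    rw [Subgroup.index_ker]
    have h1 : Nat.card f.range ≤ 2 := by
      refine (Subgroup.card_le_card_group _).trans ?_
      rw [Nat.card_eq_fintype_card, Fintype.card_units_int]
    have h2 : 1 < Nat.card f.range := by
      rw [Finite.one_lt_card_iff_nontrivial, Subgroup.nontrivial_iff_ne_bot]
      intro h
      exact hg (DFunLike.congr_fun (MonoidHom.range_eq_bot_iff.1 h) g)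
    omega
  have hd' : 2 * Nat.card E' = Nat.card E := by
    have h1 := card_eq hZN hab
    have h2 := card_eq hZ hab
    have h3 := Subgroup.card_mul_index f.ker
    rw [hidx, h1, h2] at h3
    have h4 : Nat.card Ω * ((Nat.card Ω - 1) * (2 * Nat.card E')) =
        Nat.card Ω * ((Nat.card Ω - 1) * Nat.card E) := by rw [← h3]; ring
    exact Nat.eq_of_mul_eq_mul_left (by omega) (Nat.eq_of_mul_eq_mul_left (by omega) h4)
  have heven' : Even (Nat.card E') := by
    refine even_iff_two_dvd.2 ?_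
    have ho : orderOf (⟨z, hzker⟩ : f.ker) = 2 := (Subgroup.orderOf_coe _).symm.trans hzo
    exact ho ▸ Subgroup.orderOf_dvd_natCard E' (x := (⟨z, hzker⟩ : f.ker)) ⟨hzE.1, hzE.2⟩
  have h5 := S0741.result hZN hab heven'
  rw [← Nat.card_eq_fintype_card] at h5
  change _ ≤ 2 * Nat.card E' at h5
  have h6 : 0 < Nat.card E := Nat.card_pos
  omega

theorem even_fix_two (hZ : Cfsg.IsZassenhausGroup G Ω) {a b : Ω} (hab : a ≠ b)
    (heven : Even (Nat.card ↥(stabilizer G a ⊓ stabilizer G b)))
    (hcard : Nat.card Ω - 2 = 2 * Nat.card ↥(stabilizer G a ⊓ stabilizer G b)) :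
    ∀ t : G, orderOf t = 2 → Nat.card (fixedBy Ω t) = 2 := by
  classical
  have := Fintype.ofFinite Ω
  intro t ht
  have h1 := sign_involution hZ ht
  rw [even_permutations hZ hab heven hcard t] at h1
  have ht1 : t ≠ 1 := fun h => by simp [h] at ht
  have htt : t * t = 1 := by rw [← pow_two, ← ht, pow_orderOf_eq_one]
  have h2 := card_fixedBy_le_two hZ ht1
  have h3 : Nat.card (fixedBy Ω t) % 2 = Nat.card Ω % 2 := card_fixedBy_modEq htt
  have hn3 := three_le_card hZ
  obtain ⟨i, hi⟩ := heven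
  rcases Nat.even_or_odd ((Nat.card Ω - Nat.card (fixedBy Ω t)) / 2) with ⟨k, hk⟩ | ho
  · omega
  · rw [ho.neg_one_pow] at h1
    exact absurd h1 (by decide)

theorem even_psl2 (hZ : Cfsg.IsZassenhausGroup G Ω) {a b : Ω} (hab : a ≠ b)
    (heven : Even (Nat.card ↥(stabilizer G a ⊓ stabilizer G b)))
    (hcard : Nat.card Ω - 2 = 2 * Nat.card ↥(stabilizer G a ⊓ stabilizer G b)) :
    ∃ (p f : ℕ) (K : Type) (_ : Field K) (_ : Fintype K), p.Prime ∧ p ≠ 2 ∧ 3 < Fintype.card K ∧
      Fintype.card K = p ^ f ∧ Nat.card Ω = p ^ f + 1 ∧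
      Nonempty (G ≃* Matrix.ProjectiveSpecialLinearGroup (Fin 2) K) := by
  obtain ⟨H, hHa, hHn, hHc, hHf⟩ := exists_kernel_subgroup hZ a
  have hab' := kernel_abelian hZ hab hcard.le H hHa hHn hHc hHf
  obtain ⟨s, -, hsa, hsb⟩ := exists_involution_swap hZ hab
  obtain ⟨hs2, hinv⟩ := inverting_of_fix_two hZ hab heven hcard (even_fix_two hZ hab heven hcard) s hsa hsb
  exact exists_psl2 hZ hab H hHa hHn hHc hHf hab' hcard s hsa hsb
    (by rw [← pow_two, ← hs2, pow_orderOf_eq_one]) hinv

end Cfsg.Agent.Zassenhaus
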