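/-
Simple Zassenhaus groups with two-point stabiliser of odd order.

* `simple_cyclic_inv`: the two-point stabiliser is cyclic, self-centralising, inverted by every
  element interchanging the two points.
-/
import Cfsg.Agent.S0739
import Cfsg.Agent.EqLemmas

set_option autoImplicit false

open MulAction

namespace Cfsg.Agent.Zassenhaus

variable {G Ω : Type*} [Group G] [Finite G] [MulAction G Ω] [Finite Ω]

theorem simple_cyclic_inv (hZ : Cfsg.IsZassenhausGroup G Ω) [IsSimpleGroup G] {a b : Ω} (hab : a ≠ b)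
    (hodd : Odd (Nat.card ↥(stabilizer G a ⊓ stabilizer G b))) :
    IsCyclic ↥(stabilizer G a ⊓ stabilizer G b) ∧
      Subgroup.centralizer ((stabilizer G a ⊓ stabilizer G b : Subgroup G) : Set G) =
        stabilizer G a ⊓ stabilizer G b ∧
      ∀ s : G, s • a = b → s • b = a → ∀ h ∈ stabilizer G a ⊓ stabilizer G b, s * h * s⁻¹ = h⁻¹ := by
  have := Fintype.ofFinite Ω
  refine S0739.result hZ hab hodd ?_
  rintro q hq hqd ⟨N, hN, hidx⟩
  have hE : Nat.card ↥(stabilizer G a ⊓ stabilizer G b) ∣ Nat.card G := Subgroup.card_subgroup_dvd_card _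
  rcases Subgroup.Normal.eq_bot_or_eq_top hN with h | h
  · rw [h, Subgroup.index_bot] at hidx
    have h2 := hidx ▸ two_dvd_card hZ
    have : 2 = q := (Nat.prime_dvd_prime_iff_eq Nat.prime_two hq).1 (Nat.prime_two.dvd_of_dvd_pow h2)
    subst this
    exact Nat.not_even_iff_odd.2 hodd (even_iff_two_dvd.2 hqd)
  · rw [h, Subgroup.index_top] at hidx
    have := hq.factorization_pos_of_dvd Nat.card_pos.ne' (hqd.trans hE)
    have := Nat.one_lt_pow this.ne' hq.one_lt
    omega

end Cfsg.Agent.Zassenhaus
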