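/-
Feit's theorem on Zassenhaus groups with two-point stabiliser of odd order.

* `regular_orth` : an irreducible character of `G` orthogonal to the exceptional differences and to
  everything induced from characters trivial on the kernel has degree divisible by `|K| - 1`
* `coherent_divides` : coherence and a class function vanishing on `L` force `|K| - 1 ∣ |G|`
* `linear_of_trivial`, `induced_trivial` : the characters of the point stabiliser trivial on the kernel
* `coherent_bound` : coherence forces `h - 1 ≤ 2e` in a simple group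
-/
import Cfsg.Agent.S0878
import Cfsg.Agent.S0880
import Cfsg.Agent.S0881
import Cfsg.Agent.S4748
import Cfsg.Agent.Lib.Zassenhaus.Simple
import Cfsg.Agent.Lib.Coherence.TIFN
import Cfsg.Agent.Lib.Char.Perm
import Cfsg.Agent.Lib.ClassCount.CharSum
import Cfsg.Agent.EqLemmas

set_option autoImplicit false
set_option linter.style.haveILetI false

open MulAction Cfsg Cfsg.Agent.Char Cfsg.Agent.Coherence
open scoped ComplexConjugate

namespace Cfsg.Agent.Zassenhaus

universe u v

section General

variable {G : Type u} [Group G] [Fintype G] (L : Subgroup G) [Fintype L] (K : Subgroup L) [K.Normal]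

theorem regular_orth (hK1 : K ≠ ⊥) (hK2 : K ≠ ⊤) (hF : FrobK K) (Y : IrrCharacter G)
    (h1 : ∀ α ∈ zspanOn (inducedIrrAbove K ⊥) {1}ᶜ, classInner (Y : G → ℂ) (indFun L α) = 0)
    (h2 : ∀ χ : IrrCharacter L, (χ : L → ℂ) ∉ inducedIrrAbove K ⊥ →
      classInner (Y : G → ℂ) (indFun L χ) = 0) :
    (Nat.card K - 1) ∣ Nat.card G := by
  classical
  let R : L → ℂ := fun x => (Y : G → ℂ) x
  have hY := IsIrrCharacter.isClassFunction Y.2
  have hR : IsCharacter L R := IsCharacter.restrict (IsIrrCharacter.isCharacter Y.2) L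
  have hRc := IsCharacter.isClassFunction hR
  have hin : ∀ α, classInner R α = classInner (Y : G → ℂ) (indFun L α) :=
    fun α => (frobenius_reciprocity' L α hY).symm
  obtain ⟨d, hd, hdi⟩ := hF.const_of_orth hK1 hK2 hRc (fun α hα => by rw [hin]; exact h1 α hα)
  obtain ⟨m, rfl⟩ := hdi (isGC_of_isCharacter hR)
  have := Fintype.ofFinite (IrrCharacter L)
  have := Fintype.ofFinite K
  have hsum : ∑ k : K, R (k : L) = 0 := by
    have hexp : ∀ k : K, R (k : L) = (∑ χ : IrrCharacter L, classInner R (χ : L → ℂ) • (χ : L → ℂ)) (k : L) :=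
      fun k => congrFun (classFunction_eq_sum hRc) (k : L)
    refine (Finset.sum_congr rfl fun k _ => hexp k).trans ?_
    simp only [Finset.sum_apply, Pi.smul_apply, smul_eq_mul]
    rw [Finset.sum_comm]
    refine Finset.sum_eq_zero fun χ _ => ?_
    rw [← Finset.mul_sum]
    by_cases hχ : (χ : L → ℂ) ∈ inducedIrrAbove K ⊥
    · rw [sum_kernel_eq_zero hχ, mul_zero]
    · rw [hin, h2 χ hχ, zero_mul]
  rw [← Finset.add_sum_erase _ _ (Finset.mem_univ (1 : K)),
    Finset.sum_congr rfl (g := fun _ : K => (m : ℂ)) (fun k hk => hd k k.2 fun e =>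
      (Finset.mem_erase.1 hk).1 (Subtype.ext e)),
    Finset.sum_const, Finset.card_erase_of_mem (Finset.mem_univ _), Finset.card_univ,
    ← Nat.card_eq_fintype_card, nsmul_eq_mul] at hsum
  obtain ⟨D, hD⟩ : ∃ D : ℕ, (Y : G → ℂ) 1 = D := IsCharacter.exists_degree (IsIrrCharacter.isCharacter Y.2)
  have hR1 : R ((1 : K) : L) = (D : ℂ) := by simp [R, hD]
  rw [hR1] at hsum
  have hz : (D : ℤ) = -(((Nat.card K - 1 : ℕ) : ℤ) * m) := by
    have : (D : ℂ) = ((-(((Nat.card K - 1 : ℕ) : ℤ) * m) : ℤ) : ℂ) := by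
      push_cast
      linear_combination hsum
    exact_mod_cast this
  have hdvd : (Nat.card K - 1) ∣ D := by
    rw [← Int.natCast_dvd_natCast, hz]
    exact (dvd_mul_right _ _).neg_right
  refine hdvd.trans ?_
  have h3 := ClassCount.degree_dvd_card Y
  have h4 := ClassCount.apply_one_eq_charDegree Y
  rw [hD] at h4
  rwa [← Nat.cast_inj (R := ℂ).1 h4] at h3

theorem coherent_divides (hK1 : K ≠ ⊥) (hK2 : K ≠ ⊤) (hF : FrobK K)
    (hcoh : IsCoherent (inducedIrrAbove K ⊥) {1}ᶜ (fun α => indFun L α))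
    (hone : ∀ α ∈ zspanOn (inducedIrrAbove K ⊥) {1}ᶜ, indFun L α 1 = 0)
    (f : G → ℂ) (hfc : IsClassFunction G f) (hfL : ∀ g ∈ L, f g = 0) (hf0 : f ≠ 0)
    (hout : ∀ χ : IrrCharacter L, (χ : L → ℂ) ∉ inducedIrrAbove K ⊥ → ∀ Y : IrrCharacter G,
      classInner (Y : G → ℂ) (indFun L χ) ≠ 0 → classInner f (Y : G → ℂ) = 0) :
    (Nat.card K - 1) ∣ Nat.card G := by
  classical
  by_contra hndvd
  obtain ⟨-, τ, ⟨hadd, hsmul, hiso, hgc⟩, hτ⟩ := hcoh
  have hSirr : ∀ φ ∈ inducedIrrAbove K ⊥, IsIrrCharacter L φ := fun φ hφ => hF.irr_of_mem hφ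
  have hfin : (inducedIrrAbove K ⊥).Finite := FrobK.finite_set (H := K) (⊥ : Subgroup L)
  have horth : ∀ φ ∈ inducedIrrAbove K ⊥, ∀ ψ ∈ inducedIrrAbove K ⊥,
      classInner (τ φ) (τ ψ) = if φ = ψ then 1 else 0 := fun φ hφ ψ hψ => by
    rw [hiso _ (subset_zspan hφ) _ (subset_zspan hψ), classInner_irr (hSirr φ hφ) (hSirr ψ hψ)]
  have hsigned : ∀ φ ∈ inducedIrrAbove K ⊥, IsSignedIrr G (τ φ) := fun φ hφ =>
    gc_norm_one (hgc _ (subset_zspan hφ)) (by rw [horth φ hφ φ hφ, if_pos rfl])
  have hfind : ∀ θ : L → ℂ, classInner f (indFun L θ) = 0 := by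
    intro θ
    rw [frobenius_reciprocity' L θ hfc, classInner,
      Finset.sum_eq_zero fun g _ => by rw [hfL g g.2, zero_mul], mul_zero]
  haveI := hF.nilpotent hK2
  haveI : Group.IsSolvable K := inferInstance
  obtain ⟨φ₀, hφ₀, hφ₀d⟩ := exists_linear_mem (K := K) ⊥ inferInstance (bot_lt_iff_ne_bot.2 hK1)
  have he : (K.index : ℂ) ≠ 0 := Nat.cast_ne_zero.2 Subgroup.index_ne_zero_of_finite
  choose! deg hdeg0 hdeg using fun φ (hφ : φ ∈ inducedIrrAbove K ⊥) => hF.degree hφ
  have hdiff : ∀ φ ∈ inducedIrrAbove K ⊥, ∀ Φ : G → ℂ,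
      (classInner Φ (indFun L (φ - deg φ • φ₀)) = classInner Φ (τ φ) - (deg φ : ℂ) * classInner Φ (τ φ₀)) ∧
      τ φ 1 = (deg φ : ℂ) * τ φ₀ 1 := by
    intro φ hφ Φ
    have hα : φ - deg φ • φ₀ ∈ zspanOn (inducedIrrAbove K ⊥) {1}ᶜ := mem_zspanOn_one.2
      ⟨zspan_sub (subset_zspan hφ) (zspan_zsmul _ (subset_zspan hφ₀)), by
        simp [hdeg φ hφ, hφ₀d]⟩
    have h1 : indFun L (φ - deg φ • φ₀) = τ φ - deg φ • τ φ₀ := by
      refine (hτ _ hα).symm.trans ?_
      rw [sub_eq_add_neg φ, ← neg_zsmul, hadd _ (subset_zspan hφ) _ (zspan_zsmul _ (subset_zspan hφ₀)),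
        hsmul _ (subset_zspan hφ₀), neg_zsmul, ← sub_eq_add_neg]
    refine ⟨?_, ?_⟩
    · rw [h1, classInner_sub_right, classInner_zsmul_right]
    · have := congrFun h1 1
      rw [hone _ hα] at this
      simp only [Pi.sub_apply, Pi.smul_apply, zsmul_eq_mul] at this
      exact sub_eq_zero.1 this.symm
  set c := classInner f (τ φ₀) with hc
  have hfτ : ∀ φ ∈ inducedIrrAbove K ⊥, classInner f (τ φ) = (deg φ : ℂ) * c := fun φ hφ => by
    have := (hdiff φ hφ f).1
    rw [hfind] at this
    exact sub_eq_zero.1 this.symm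
  set V : G → ℂ := f - ∑ φ ∈ hfin.toFinset, ((deg φ : ℂ) * c) • τ φ with hV
  have hVc : IsClassFunction G V := isClassFunction_sub hfc (isClassFunction_sum _ fun φ hφ =>
    isClassFunction_smul (isGC_isClassFunction (hgc _ (subset_zspan ((Set.Finite.mem_toFinset hfin).1 hφ)))) _)
  have hVτ : ∀ ψ ∈ inducedIrrAbove K ⊥, classInner V (τ ψ) = 0 := by
    intro ψ hψ
    rw [hV, classInner_sub_left, classInner_sum_left, hfτ ψ hψ,
      Finset.sum_eq_single ψ]
    · rw [classInner_smul_left, horth ψ hψ ψ hψ, if_pos rfl, mul_one, sub_self]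
    · intro φ hφ hne
      rw [classInner_smul_left, horth φ ((Set.Finite.mem_toFinset hfin).1 hφ) ψ hψ, if_neg hne, mul_zero]
    · exact fun h => absurd ((Set.Finite.mem_toFinset hfin).2 hψ) h
  have hV0 : V = 0 := by
    refine eq_zero_of_forall_classInner_irr hVc fun Y0 => ?_
    obtain ⟨Y, hYi⟩ := Y0
    change classInner V Y = 0
    by_cases hex : ∃ φ ∈ inducedIrrAbove K ⊥, classInner (τ φ) Y ≠ 0
    · obtain ⟨φ, hφ, hne⟩ := hex
      rcases hsigned φ hφ with hs | hs
      · have : τ φ = Y := by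
          by_contra h
          exact hne (classInner_irr_of_ne hs hYi h)
        rw [← this]; exact hVτ φ hφ
      · have : -τ φ = Y := by
          by_contra h
          apply hne
          have := classInner_irr_of_ne hs hYi h
          rwa [classInner_neg_left, neg_eq_zero] at this
        rw [← this, classInner_neg_right, hVτ φ hφ, neg_zero]
    · push Not at hex
      have hYV : classInner V Y = classInner f Y := by
        rw [hV, classInner_sub_left, classInner_sum_left, Finset.sum_eq_zero fun φ hφ => by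
          rw [classInner_smul_left, hex φ ((Set.Finite.mem_toFinset hfin).1 hφ), mul_zero], sub_zero]
      rw [hYV]
      by_contra hfY
      refine hndvd (regular_orth L K hK1 hK2 hF ⟨Y, hYi⟩ (fun α hα => ?_) fun χ hχ => ?_)
      · have hτY : ∀ β ∈ zspan (inducedIrrAbove K ⊥), classInner Y (τ β) = 0 := by
          intro β hβ
          refine (zspan_induction (P := fun β : L → ℂ => β ∈ zspan (inducedIrrAbove K ⊥) ∧ classInner Y (τ β) = 0)
            ?_ ?_ ?_ ?_ hβ).2
          · intro φ hφ
            refine ⟨subset_zspan hφ, ?_⟩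
            rw [← classInner_conj_symm, hex φ hφ, map_zero]
          · refine ⟨zspan_zero, ?_⟩
            have := hsmul φ₀ (subset_zspan hφ₀) 0
            rw [zero_smul, zero_smul] at this
            rw [this, ← classInner_conj_symm]
            simp [classInner]
          · exact fun u _ w _ hu hw => ⟨zspan_add hu.1 hw.1, by
              rw [hadd _ hu.1 _ hw.1, classInner_add_right, hu.2, hw.2, add_zero]⟩
          · exact fun n u _ hu => ⟨zspan_zsmul n hu.1, by
              rw [hsmul _ hu.1, classInner_zsmul_right, hu.2, mul_zero]⟩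
        rw [show indFun L α = τ α from (hτ α hα).symm]
        exact hτY α (mem_zspanOn_one.1 hα).1
      · by_contra h
        exact hfY (hout χ hχ ⟨Y, hYi⟩ h)
  have hV1 := congrFun hV0 1
  simp only [hV, Pi.sub_apply, Pi.zero_apply, Finset.sum_apply, Pi.smul_apply, smul_eq_mul, hfL 1 (one_mem L),
    zero_sub, neg_eq_zero] at hV1
  rw [Finset.sum_congr rfl (g := fun φ => (c * τ φ₀ 1) * (deg φ : ℂ) ^ 2) fun φ hφ => by
    rw [(hdiff φ ((Set.Finite.mem_toFinset hfin).1 hφ) f).2]; ring, ← Finset.mul_sum] at hV1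
  have hpos : ∑ φ ∈ hfin.toFinset, (deg φ : ℂ) ^ 2 ≠ 0 := by
    have : 0 < ∑ φ ∈ hfin.toFinset, deg φ ^ 2 :=
      Finset.sum_pos (fun φ hφ => pow_pos (hdeg0 φ ((Set.Finite.mem_toFinset hfin).1 hφ)) 2)
        ⟨φ₀, (Set.Finite.mem_toFinset hfin).2 hφ₀⟩
    exact_mod_cast this.ne'
  have hc0 : c = 0 := (mul_eq_zero.1 ((mul_eq_zero.1 hV1).resolve_right hpos)).resolve_right
    (signed_apply_one_ne_zero (hsigned φ₀ hφ₀))
  apply hf0
  rw [← hV0, hV, hc0]
  simp

end General

variable {G : Type u} {Ω : Type v} [Group G] [Fintype G] [MulAction G Ω] [Fintype Ω]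

theorem linear_of_trivial (hZ : Cfsg.IsZassenhausGroup G Ω) {a b : Ω} (hab : a ≠ b)
    (hcyc : IsCyclic ↥(stabilizer G a ⊓ stabilizer G b : Subgroup G))
    (H : Subgroup G) (hHa : H ≤ stabilizer G a) (hHcard : Nat.card H + 1 = Fintype.card Ω)
    (hHfix : ∀ u ∈ H, u ≠ 1 → ∀ c : Ω, u • c = c → c = a)
    (hn : (H.subgroupOf (stabilizer G a)).Normal) :
    commutator (stabilizer G a) ≤ H.subgroupOf (stabilizer G a) := by
  classical
  haveI := hn
  haveI := hcyc
  let L : Subgroup G := stabilizer G a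
  let π : ↥(stabilizer G a ⊓ stabilizer G b : Subgroup G) →* L ⧸ H.subgroupOf L :=
    (QuotientGroup.mk' (H.subgroupOf L)).comp (Subgroup.inclusion inf_le_left)
  have hsurj : Function.Surjective π := by
    intro q
    obtain ⟨g, rfl⟩ := QuotientGroup.mk'_surjective (H.subgroupOf L) q
    have hga : (g : G) • a = a := g.2
    let φ : H → {c : Ω // c ≠ a} := fun u => ⟨(u : G) • b, fun h => hab
      (smul_left_cancel (u : G) (h.trans (show (u : G) • a = a from hHa u.2).symm)).symm⟩
    have hb : Function.Bijective φ := by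
      refine (Nat.bijective_iff_injective_and_card φ).2 ⟨fun u v huv => ?_, ?_⟩
      · by_contra hne
        have hne' : ((v⁻¹ * u : H) : G) ≠ 1 := fun e => hne (inv_mul_eq_one.1 (Subtype.ext e)).symm
        exact hab.symm (hHfix _ (v⁻¹ * u : H).2 hne' b (by
          rw [Subgroup.coe_mul, Subgroup.coe_inv, mul_smul,
            show (u : G) • b = (v : G) • b from congrArg Subtype.val huv, inv_smul_smul]))
      · rw [Nat.card_eq_fintype_card (α := {c : Ω // c ≠ a}), Fintype.card_subtype_compl,
          Fintype.card_subtype_eq]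
        omega
    obtain ⟨u, hu⟩ := hb.2 ⟨(g : G) • b, fun h => hab
      (smul_left_cancel (g : G) (h.trans hga.symm)).symm⟩
    have hub : (u : G) • b = (g : G) • b := congrArg Subtype.val hu
    have hua : (u : G) • a = a := hHa u.2
    let u' : L := ⟨u, hHa u.2⟩
    refine ⟨⟨((u'⁻¹ * g : L) : G), (u'⁻¹ * g).2, ?_⟩, ?_⟩
    · change ((u : G)⁻¹ * (g : G)) • b = b
      rw [mul_smul, ← hub, inv_smul_smul]
    · change QuotientGroup.mk' (H.subgroupOf L) (u'⁻¹ * g) = QuotientGroup.mk' (H.subgroupOf L) g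
      have hu1 : QuotientGroup.mk' (H.subgroupOf L) u' = 1 := (QuotientGroup.eq_one_iff _).2 u.2
      rw [map_mul, map_inv, hu1, inv_one, one_mul]
  haveI : IsMulCommutative (L ⧸ H.subgroupOf L) := ⟨⟨fun p q => by
    obtain ⟨p, rfl⟩ := hsurj p
    obtain ⟨q, rfl⟩ := hsurj q
    rw [← map_mul, ← map_mul, mul_comm']⟩⟩
  exact Subgroup.Normal.quotient_commutative_iff_commutator_le.1 inferInstance

set_option maxHeartbeats 1000000 in
theorem coherent_bound (hZ : Cfsg.IsZassenhausGroup G Ω) {a b : Ω} (hab : a ≠ b) [IsSimpleGroup G]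
    (h e : ℕ) (hh : Fintype.card Ω = h + 1)
    (he : Nat.card ↥(stabilizer G a ⊓ stabilizer G b : Subgroup G) = e) (hodd : Odd e)
    (H : Subgroup G) (hHa : H ≤ stabilizer G a) (hHcard : Nat.card H + 1 = Fintype.card Ω)
    (hHfix : ∀ u ∈ H, u ≠ 1 → ∀ c : Ω, u • c = c → c = a)
    (L : Subgroup G) (hLa : L = stabilizer G a) [Fintype L] [(H.subgroupOf L).Normal]
    (hK1 : H.subgroupOf L ≠ ⊥) (hK2 : H.subgroupOf L ≠ ⊤) (hF : FrobK (H.subgroupOf L))
    (hcoh : IsCoherent (inducedIrrAbove (H.subgroupOf L) ⊥) {1}ᶜ (fun α => indFun L α))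
    (hone : ∀ α ∈ zspanOn (inducedIrrAbove (H.subgroupOf L) ⊥) {1}ᶜ, indFun L α 1 = 0) :
    h - 1 ≤ 2 * e := by
  classical
  subst hLa
  by_contra hcon
  push Not at hcon
  have hne : e < Fintype.card Ω - 2 := by omega
  have hodd' : Odd (Nat.card ↥(stabilizer G a ⊓ stabilizer G b : Subgroup G)) := he.symm ▸ hodd
  have hne' : Nat.card ↥(stabilizer G a ⊓ stabilizer G b : Subgroup G) < Fintype.card Ω - 2 := he.symm ▸ hne
  obtain ⟨x, y, hx, hy, hxy⟩ := S0880.result hZ hab hodd' hne'
  let f : G → ℂ := fun g =>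
    (if IsConj x g then ((Nat.card {z : G // IsConj x z} : ℂ))⁻¹ else 0) -
      (if IsConj y g then ((Nat.card {z : G // IsConj y z} : ℂ))⁻¹ else 0)
  have hcpos : ∀ w : G, (Nat.card {z : G // IsConj w z} : ℂ) ≠ 0 := fun w =>
    Nat.cast_ne_zero.2 (Nat.card_pos_iff.2 ⟨⟨⟨w, IsConj.refl w⟩⟩, inferInstance⟩).ne'
  have hfc : IsClassFunction G f := by
    intro g k
    have : ∀ w, IsConj w (k * g * k⁻¹) ↔ IsConj w g := fun w => by
      have hk : IsConj g (k * g * k⁻¹) := isConj_iff.2 ⟨k, rfl⟩
      exact ⟨fun h => h.trans hk.symm, fun h => h.trans hk⟩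
    simp only [f, this]
  have hfL : ∀ g ∈ stabilizer G a, f g = 0 := by
    intro g hg
    have hno : ∀ w : G, (∀ c : Ω, w • c ≠ c) → ¬ IsConj w g := by
      intro w hw hc
      obtain ⟨k, rfl⟩ := isConj_iff.1 hc
      have hg' : (k * w * k⁻¹) • a = a := hg
      rw [mul_smul, mul_smul, smul_eq_iff_eq_inv_smul] at hg'
      exact hw _ hg'
    simp only [f, if_neg (hno x hx), if_neg (hno y hy), sub_zero]
  have hf0 : f ≠ 0 := fun h => by
    have := congrFun h x
    simp only [f, if_pos (IsConj.refl x), if_neg (fun hc : IsConj y x => hxy hc.symm), sub_zero,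
      Pi.zero_apply, inv_eq_zero] at this
    exact hcpos x this
  have hsum0 : ∀ w : G,
      ∑ g : G, (if IsConj w g then ((Nat.card {z : G // IsConj w z} : ℂ))⁻¹ else 0) = 1 := fun w => by
    rw [← Finset.sum_filter, Finset.sum_const, nsmul_eq_mul, ← Fintype.card_subtype,
      ← Nat.card_eq_fintype_card]
    exact mul_inv_cancel₀ (hcpos w)
  have hf1 : classInner f (1 : G → ℂ) = 0 := by
    simp only [classInner, Pi.one_apply, map_one, mul_one, f, Finset.sum_sub_distrib, hsum0,
      sub_self, mul_zero]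
  have hfind : ∀ θ : ↥(stabilizer G a) → ℂ, classInner f (indFun (stabilizer G a) θ) = 0 := by
    intro θ
    rw [frobenius_reciprocity' (stabilizer G a) θ hfc, classInner,
      Finset.sum_eq_zero fun g _ => by rw [hfL g g.2, zero_mul], mul_zero]
  have hcomm := linear_of_trivial hZ hab (simple_cyclic_inv hZ hab hodd').1 H hHa hHcard hHfix
    (inferInstance)
  have hout : ∀ χ : IrrCharacter ↥(stabilizer G a),
      (χ : ↥(stabilizer G a) → ℂ) ∉ inducedIrrAbove (H.subgroupOf (stabilizer G a)) ⊥ →
      ∀ Y : IrrCharacter G, classInner (Y : G → ℂ) (indFun (stabilizer G a) χ) ≠ 0 →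
        classInner f (Y : G → ℂ) = 0 := by
    intro χ hχ Y hY
    have htriv := fun k hk => hF.eq_one_on_out hχ k hk
    have hd1 : (χ : ↥(stabilizer G a) → ℂ) 1 = 1 :=
      S4748.linear_of_commutator_ker χ fun d hd => htriv d (hcomm hd)
    set ψ := indFun (stabilizer G a) (χ : ↥(stabilizer G a) → ℂ) with hψ
    have hψc : IsCharacter G ψ := IsCharacter.indFun _ (IsIrrCharacter.isCharacter χ.2)
    by_cases hone : (χ : ↥(stabilizer G a) → ℂ) = fun _ => 1
    · -- the permutation character
      have hval : ∀ g : G, ψ g = (Nat.card (fixedBy Ω g) : ℂ) := by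
        intro g
        rw [hψ, hone]
        refine (indFun_one_eq_fixedPoints (stabilizer G a) g).trans (congrArg Nat.cast ?_)
        haveI := isPretransitive hZ
        let q : G ⧸ stabilizer G a → Ω := ofQuotientStabilizer G a
        have hq : Function.Bijective q := ⟨injective_ofQuotientStabilizer G a, fun c => by
          obtain ⟨k, hk⟩ := MulAction.exists_smul_eq G a c
          exact ⟨(k : G ⧸ stabilizer G a), hk⟩⟩
        refine Nat.card_congr ((Equiv.ofBijective q hq).subtypeEquiv fun w => ?_)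
        change g • w = w ↔ g • q w = q w
        rw [← ofQuotientStabilizer_smul]
        exact hq.1.eq_iff.symm
      have hψ1 : classInner ψ (1 : G → ℂ) = 1 := by
        rw [hψ, frobenius_reciprocity (stabilizer G a) _ (fun _ _ => rfl), hone]
        exact classInner_irr_self isIrrCharacter_one
      have hψψ : classInner ψ ψ = 2 := by
        rw [hψ, frobenius_reciprocity (stabilizer G a) _ (IsCharacter.isClassFunction hψc), hone,
          ← classInner_conj_symm]
        have hfp : (fun g : ↥(stabilizer G a) => ψ g) =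
            fun g : ↥(stabilizer G a) => (Nat.card (fixedBy Ω g) : ℂ) :=
          funext fun g => hval g
        rw [hfp]
        rw [show (fun _ : ↥(stabilizer G a) => (1 : ℂ)) = (1 : ↥(stabilizer G a) → ℂ) from rfl,
          classInner_fixedPoints_one]
        have hcard : Nat.card (orbitRel.Quotient ↥(stabilizer G a) Ω) = 2 := by
          let Q : Bool → orbitRel.Quotient ↥(stabilizer G a) Ω :=
            fun i => Quotient.mk'' (bif i then a else b)
          have hQ : Function.Bijective Q := by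
            constructor
            · have hno : ¬ Q true = Q false := fun h => by
                obtain ⟨g, hg⟩ := Quotient.exact h
                exact hab (smul_left_cancel (g : G) ((show (g : G) • a = a from g.2).trans hg.symm))
              intro i j h
              cases i <;> cases j <;> first | rfl | exact absurd h hno | exact absurd h.symm hno
            · intro o
              induction o using Quotient.inductionOn' with
              | h c =>
                by_cases hc : c = a
                · exact ⟨true, congrArg _ hc.symm⟩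
                · obtain ⟨g, hg, hgb⟩ := exists_smul_pair hZ hab (Ne.symm hc)
                  exact ⟨false, (Quotient.sound' (show orbitRel ↥(stabilizer G a) Ω c b from ⟨⟨g, hg⟩, hgb⟩)).symm⟩
          rw [← Nat.card_eq_of_bijective Q hQ, Nat.card_eq_fintype_card, Fintype.card_bool]
        rw [hcard]
        simp [map_ofNat]
      have hη : IsSignedIrr G (ψ - 1) := by
        refine gc_norm_one (isGC_sub (isGC_of_isCharacter hψc) (isGC_of_isCharacter isCharacter_one)) ?_
        rw [classInner_sub_left, classInner_sub_right, classInner_sub_right, hψψ, hψ1,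
          ← classInner_conj_symm ψ 1, hψ1, map_one, classInner_irr_self isIrrCharacter_one]
        norm_num
      have hfη : classInner f (ψ - 1) = 0 := by
        rw [classInner_sub_right, hfind, hf1, sub_zero]
      by_cases hY1 : (Y : G → ℂ) = 1
      · rw [hY1, hf1]
      · have hYη : classInner (Y : G → ℂ) (ψ - 1) ≠ 0 := by
          rw [classInner_sub_right, classInner_irr_of_ne Y.2 isIrrCharacter_one hY1, sub_zero]
          exact hY
        rcases hη with hs | hs
        · have : (Y : G → ℂ) = ψ - 1 := by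
            by_contra h
            exact hYη (classInner_irr_of_ne Y.2 hs h)
          rw [this, hfη]
        · have : (Y : G → ℂ) = -(ψ - 1) := by
            by_contra h
            have := classInner_irr_of_ne Y.2 hs h
            rw [classInner_neg_right, neg_eq_zero] at this
            exact hYη this
          rw [this, classInner_neg_right, hfη, neg_zero]
    · have hμ : IsCharacter ↥(stabilizer G a) (χ : ↥(stabilizer G a) → ℂ) ∧
          (χ : ↥(stabilizer G a) → ℂ) 1 = 1 := ⟨IsIrrCharacter.isCharacter χ.2, hd1⟩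
      have hμH : ∀ u : ↥(stabilizer G a), (u : G) ∈ H → (χ : ↥(stabilizer G a) → ℂ) u = 1 :=
        fun k hk => (htriv k (Subgroup.mem_subgroupOf.2 hk)).trans hd1
      have hirr : IsIrrCharacter G ψ := (@S0881.result G Ω _ _ _ _ hZ a b hab _ hodd' hne' H hHa hHcard hHfix
        (χ : ↥(stabilizer G a) → ℂ) hμ hμH hone).1
      have : (Y : G → ℂ) = ψ := by
        by_contra h
        exact hY (classInner_irr_of_ne Y.2 hirr h)
      rw [this, hψ, hfind]
  have hdvd := coherent_divides (stabilizer G a) (H.subgroupOf (stabilizer G a)) hK1 hK2 hF hcoh hone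
    f hfc hfL hf0 hout
  rw [Nat.card_congr (Subgroup.subgroupOfEquivOfLe hHa).toEquiv] at hdvd
  have hG := card_eq hZ hab
  rw [he, Nat.card_eq_fintype_card (α := Ω), hh] at hG
  rw [hG, show Nat.card H = h by omega] at hdvd
  have hdiv : e ∣ h - 1 := by
    have := card_pair_dvd_sub_two hZ hab
    rw [he, Nat.card_eq_fintype_card (α := Ω), hh] at this
    exact this
  obtain ⟨k, hk⟩ := hdiv
  have hcop : Nat.Coprime (h - 1) h := by
    have := Nat.coprime_self_add_right (m := h - 1) (n := 1)
    rw [show h - 1 + 1 = h by omega] at this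
    exact this.2 (Nat.coprime_one_right _)
  have h3 : (h - 1) ∣ (h + 1) * e := by
    rw [show (h + 1) * ((h + 1 - 1) * e) = h * ((h + 1) * e) by rw [Nat.add_sub_cancel]; ring] at hdvd
    exact hcop.dvd_of_dvd_mul_left hdvd
  rw [hk, mul_comm (h + 1) e] at h3
  have he0 : 0 < e := hodd.pos
  have h4 : k ∣ h + 1 := Nat.dvd_of_mul_dvd_mul_left he0 h3
  have h5 : k ∣ 2 := by
    rw [show h + 1 = e * k + 2 by omega] at h4
    exact (Nat.dvd_add_right (dvd_mul_left k e)).1 h4
  have := Nat.le_of_dvd (by norm_num) h5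
  have : e * k ≤ e * 2 := Nat.mul_le_mul_left e this
  omega

end Cfsg.Agent.Zassenhaus
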