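/-
Feit's alternative for arbitrary Zassenhaus groups with odd two-point stabiliser.

* `kernel_frobK`, `kernel_ti` : the point kernel is a TI subgroup, Frobenius kernel of its normaliser
* `simple_feit` : `h - 1 ≤ 2e` or `H` is a non-abelian 2-group with small derived index (simple groups)
* `feit_inequality` : the same without simplicity
-/
import Cfsg.Agent.Lib.Zassenhaus.Feit
import Cfsg.Agent.Lib.Coherence.TIKernel
import Cfsg.Agent.Lib.Perm.Zassenhaus
import Cfsg.Agent.Lib.Zassenhaus.Kernel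
import Cfsg.Agent.EqLemmas

set_option autoImplicit false
set_option linter.style.haveILetI false

open MulAction Cfsg Cfsg.Agent.Coherence

namespace Cfsg.Agent.Zassenhaus

universe u v

theorem index_commutator_congr {A B : Type*} [Group A] [Group B] (e : A ≃* B) :
    (commutator A).index = (commutator B).index := by
  have h : (commutator A).map (e : A →* B) = commutator B := by
    rw [commutator_def, commutator_def, Subgroup.map_commutator,
      Subgroup.map_top_of_surjective (e : A →* B) e.surjective]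
  rw [← h]
  exact (Subgroup.index_map_equiv _ e).symm

variable {G : Type u} {Ω : Type v} [Group G] [Fintype G] [MulAction G Ω] [Fintype Ω]

theorem kernel_frobK (hZ : Cfsg.IsZassenhausGroup G Ω) (a : Ω)
    (H : Subgroup G) (hHa : H ≤ stabilizer G a) (hHcard : Nat.card H + 1 = Fintype.card Ω)
    (hHfix : ∀ u ∈ H, u ≠ 1 → ∀ c : Ω, u • c = c → c = a) :
    FrobK (H.subgroupOf (Subgroup.normalizer (H : Set G))) := by
  classical
  have hL := (S0878.result hZ a H hHa hHcard hHfix).2
  have hc : Nat.card H = Nat.card Ω - 1 := by rw [Nat.card_eq_fintype_card (α := Ω)]; omega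
  have hK := coe_eq_pointKernel hZ H hHa hc hHfix
  intro u hu hu1 x hx
  rw [Subgroup.mem_centralizer_singleton_iff] at hx
  rw [Subgroup.mem_subgroupOf] at hu ⊢
  have hu1' : (u : G) ≠ 1 := fun e => hu1 (Subtype.ext e)
  have hxu : (x : G) * u = u * x := congrArg Subtype.val hx
  have hxa : (x : G) • a = a := hL.le x.2
  refine hK.ge (?_ : (x : G) ∈ pointKernel G a)
  refine ⟨hxa, ?_⟩
  by_cases hx1 : (x : G) = 1
  · exact Or.inl hx1
  right
  intro c hc'
  by_contra hca
  have h2 : (x : G) • ((u : G) • c) = (u : G) • c := by rw [← mul_smul, hxu, mul_smul, hc']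
  rcases eq_left_or_eq_right hZ hx1 (Ne.symm hca) hxa hc' h2 with h | h
  · exact hca (smul_left_cancel (u : G) (h.trans (show (u : G) • a = a from hHa hu).symm))
  · exact hca (hHfix _ hu hu1' c h)

theorem simple_feit (hZ : Cfsg.IsZassenhausGroup G Ω) {a b : Ω} (hab : a ≠ b) [IsSimpleGroup G]
    (h e : ℕ) (hh : Fintype.card Ω = h + 1)
    (he : Nat.card ↥(stabilizer G a ⊓ stabilizer G b : Subgroup G) = e) (hodd : Odd e)
    (H : Subgroup G) (hHa : H ≤ stabilizer G a) (hHcard : Nat.card H + 1 = Fintype.card Ω)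
    (hHfix : ∀ u ∈ H, u ≠ 1 → ∀ c : Ω, u • c = c → c = a) :
    h - 1 ≤ 2 * e ∨
      (IsPGroup 2 H ∧ (∃ u v : H, u * v ≠ v * u) ∧ (commutator H).index ≤ 4 * e ^ 2 + 1) := by
  classical
  obtain ⟨hTI', hLa⟩ := S0878.result hZ a H hHa hHcard hHfix
  set L := Subgroup.normalizer (H : Set G) with hL
  have := Fintype.ofFinite L
  have hTI : IsTISubset (H : Set G) := fun g hg u hu hgu => hTI' g (fun hm => hg (hLa.ge hm)) u hu hgu
  have hF := kernel_frobK hZ a H hHa hHcard hHfix
  have hn3 : 3 ≤ h + 1 := by rw [← hh, ← Nat.card_eq_fintype_card]; exact three_le_card hZ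
  have hHne : H ≠ ⊥ := fun e => by rw [e, Subgroup.card_bot] at hHcard; omega
  have hHL : H ≤ L := Subgroup.le_normalizer
  have hcardK : Nat.card (H.subgroupOf L) = h := by
    rw [Nat.card_congr (Subgroup.subgroupOfEquivOfLe hHL).toEquiv]; omega
  have hidx : (H.subgroupOf L).index = e := by
    have h1 := Subgroup.card_mul_index (H.subgroupOf L)
    have h2 : Nat.card L = h * e := by
      rw [hLa, card_stab hZ hab, he, Nat.card_eq_fintype_card (α := Ω), hh, Nat.add_sub_cancel]
    rw [hcardK, h2] at h1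
    exact Nat.eq_of_mul_eq_mul_left (by omega) h1
  have he1 : e ≠ 1 := by
    intro h1
    obtain ⟨x, hx1, hxa, hxb⟩ := exists_fix_pair hZ hab
    have : Nontrivial ↥(stabilizer G a ⊓ stabilizer G b : Subgroup G) :=
      ⟨⟨⟨x, hxa, hxb⟩, 1, fun e => hx1 (congrArg Subtype.val e)⟩⟩
    have := Finite.one_lt_card (α := ↥(stabilizer G a ⊓ stabilizer G b : Subgroup G))
    omega
  have hlt : H < L := by
    refine lt_of_le_of_ne hHL fun e' => he1 ?_
    rw [← hidx, Subgroup.index_eq_one, Subgroup.subgroupOf_eq_top]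
    exact e'.ge
  have hK1 : H.subgroupOf L ≠ ⊥ := subgroupOf_ne_bot hHne
  have hK2 : H.subgroupOf L ≠ ⊤ := subgroupOf_ne_top hlt
  obtain ⟨hτ, hτ1⟩ := ti_isometry H hTI
  have hbound := fun hcoh => coherent_bound hZ hab h e hh he hodd H hHa hHcard hHfix L hLa hK1 hK2 hF hcoh hτ1
  rcases hF.feit hK1 hK2 hτ hτ1 with hc | ⟨-, hcard⟩ | ⟨p, hp, ⟨m, hm⟩, hna, hn⟩
  · exact Or.inl (hbound hc)
  · left
    rw [hcardK, hidx] at hcard
    omega
  haveI := Fact.mk hp
  have eH := Subgroup.subgroupOfEquivOfLe hHL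
  have hP : IsPGroup p H := IsPGroup.of_card ((Nat.card_congr eH.toEquiv).symm.trans hm)
  have hnaH : ∃ u v : H, u * v ≠ v * u := by
    by_contra hcon
    push Not at hcon
    exact hna ⟨⟨fun x y => eH.injective (by rw [map_mul, map_mul]; exact hcon _ _)⟩⟩
  rcases eq_or_ne p 2 with rfl | hp2
  · right
    refine ⟨hP, hnaH, ?_⟩
    rw [hidx] at hn
    rw [← index_commutator_congr eH]
    refine le_trans (le_of_eq ?_) hn
    have hsub : ⁅H.subgroupOf L, H.subgroupOf L⁆.subgroupOf (H.subgroupOf L) = commutator (H.subgroupOf L) := by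
      apply Subgroup.map_injective (H.subgroupOf L).subtype_injective
      rw [Subgroup.map_subgroupOf_eq_of_le (Subgroup.commutator_le_self _), Subgroup.map_subtype_commutator]
    rw [← hsub]
    rfl
  · left
    obtain ⟨P, hPH⟩ := sylow_of_frobK H hP hHne hF
    subst hPH
    refine hbound (sibley hp2 P hTI hF hlt fun hc => ?_)
    obtain ⟨u, v, huv⟩ := hnaH
    exact huv (hc.is_comm.comm u v)

omit [Fintype G] in
theorem feit_inequality [Finite G] (hZ : Cfsg.IsZassenhausGroup G Ω) {a b : Ω} (hab : a ≠ b)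
    (h e : ℕ) (hh : Fintype.card Ω = h + 1)
    (he : Nat.card ↥(stabilizer G a ⊓ stabilizer G b : Subgroup G) = e) (hodd : Odd e)
    (H : Subgroup G) (hHa : H ≤ stabilizer G a) (hHcard : Nat.card H + 1 = Fintype.card Ω)
    (hHfix : ∀ u ∈ H, u ≠ 1 → ∀ c : Ω, u • c = c → c = a) :
    h - 1 ≤ 2 * e ∨
      (IsPGroup 2 H ∧ (∃ u v : H, u * v ≠ v * u) ∧ (commutator H).index ≤ 4 * e ^ 2 + 1) := by
  classical
  induction hN : Nat.card G using Nat.strong_induction_on generalizing G e with
  | _ N ih =>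
  subst hN
  by_cases hs : IsSimpleGroup G
  · have := Fintype.ofFinite G
    exact simple_feit hZ hab h e hh he hodd H hHa hHcard hHfix
  have hnt : Nontrivial G := by
    obtain ⟨x, hx, -⟩ := hZ.2.2.2.1
    exact ⟨⟨x, 1, hx⟩⟩
  obtain ⟨M, hMn, hM1, hM2⟩ : ∃ M : Subgroup G, M.Normal ∧ M ≠ ⊥ ∧ M ≠ ⊤ := by
    by_contra hcon
    push Not at hcon
    exact hs ⟨fun M hMn => or_iff_not_imp_left.2 (hcon M hMn)⟩
  haveI := hMn
  have hZM : Cfsg.IsZassenhausGroup M Ω := Perm.zassenhaus_normal hZ hM1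
  let f : ↥(stabilizer M a ⊓ stabilizer M b : Subgroup M) →* ↥(stabilizer G a ⊓ stabilizer G b : Subgroup G) :=
    { toFun := fun x => ⟨((x : M) : G), x.2.1, x.2.2⟩
      map_one' := rfl
      map_mul' := fun _ _ => rfl }
  have hf : Function.Injective f := fun x y hxy =>
    Subtype.ext (Subtype.ext (congrArg Subtype.val hxy :))
  set e' := Nat.card ↥(stabilizer M a ⊓ stabilizer M b : Subgroup M) with he'
  have hdvd : e' ∣ e := he ▸ Subgroup.card_dvd_of_injective f hf
  have hle : e' ≤ e := Nat.le_of_dvd hodd.pos hdvd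
  have hodd' : Odd e' := hodd.of_dvd_nat hdvd
  obtain ⟨H', hH'a, hH'n, hH'card, hH'fix⟩ := exists_kernel_subgroup hZM a
  have hc : Nat.card H = Nat.card Ω - 1 := by rw [Nat.card_eq_fintype_card (α := Ω)]; omega
  have hK := coe_eq_pointKernel hZ H hHa hc hHfix
  have hmap : H'.map M.subtype = H := by
    refine Subgroup.eq_of_le_of_card_ge ?_ ?_
    · rintro _ ⟨u, hu, rfl⟩
      change (u : G) ∈ (H : Set G)
      rw [hK]
      refine ⟨hH'a hu, ?_⟩
      by_cases h1 : (u : G) = 1
      · exact Or.inl h1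
      · exact Or.inr fun c hcc => hH'fix u hu (fun e => h1 (congrArg Subtype.val e)) c hcc
    · rw [← Nat.card_congr (H'.equivMapOfInjective _ M.subtype_injective).toEquiv, hH'card, hc]
  let eH : H' ≃* H := (H'.equivMapOfInjective _ M.subtype_injective).trans (MulEquiv.subgroupCongr hmap)
  have hlt : Nat.card M < Nat.card G :=
    lt_of_le_of_ne (Subgroup.card_le_card_group M) fun e => hM2 ((Subgroup.card_eq_iff_eq_top M).1 e)
  have hn3 := three_le_card hZ
  rcases ih _ hlt hZM e' rfl hodd' H' hH'a (by rw [hH'card, ← Nat.card_eq_fintype_card (α := Ω)]; omega)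
    hH'fix rfl with h1 | ⟨h1, ⟨u, w, h2⟩, h3⟩
  · exact Or.inl (h1.trans (Nat.mul_le_mul_left 2 hle))
  · right
    refine ⟨h1.of_equiv eH, ⟨eH u, eH w, fun h4 => h2 (eH.injective (by rw [map_mul, map_mul, h4]))⟩, ?_⟩
    rw [← index_commutator_congr eH]
    refine h3.trans ?_
    have := Nat.pow_le_pow_left hle 2
    omega

end Cfsg.Agent.Zassenhaus
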