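/-
Zassenhaus groups with abelian point kernel.

* `abelian_bound` : `n - 2 ≤ 2d`
* `odd_inverted` : for `n - 2 = 2d`, `d` odd, some involution interchanging two points inverts their stabiliser
* `abelian_classify` : sharply triply transitive or `PSL₂(q)`, `q` odd
-/
import Cfsg.Agent.Lib.Zassenhaus.FeitGeneral
import Cfsg.Agent.Lib.Zassenhaus.EvenPSL
import Cfsg.Agent.EqLemmas

set_option autoImplicit false

open MulAction

namespace Cfsg.Agent.Zassenhaus

universe u v

variable {G : Type u} {Ω : Type v} [Group G] [Finite G] [MulAction G Ω] [Fintype Ω]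

theorem abelian_bound (hZ : Cfsg.IsZassenhausGroup G Ω) {a b : Ω} (hab : a ≠ b)
    (H : Subgroup G) (hHa : H ≤ stabilizer G a) (hHcard : Nat.card H + 1 = Fintype.card Ω)
    (hHfix : ∀ u ∈ H, u ≠ 1 → ∀ c : Ω, u • c = c → c = a)
    (hHcomm : ∀ u ∈ H, ∀ w ∈ H, u * w = w * u) :
    Fintype.card Ω - 2 ≤ 2 * Nat.card ↥(stabilizer G a ⊓ stabilizer G b) := by
  rcases Nat.even_or_odd (Nat.card ↥(stabilizer G a ⊓ stabilizer G b)) with he | ho
  · exact S0741.result hZ hab he
  · have hn3 : 3 ≤ Fintype.card Ω := by rw [← Nat.card_eq_fintype_card]; exact three_le_card hZ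
    rcases feit_inequality hZ hab (Fintype.card Ω - 1) _ (by omega) rfl ho H hHa hHcard hHfix with h | ⟨-, ⟨x, y, hxy⟩, -⟩
    · omega
    · exact absurd (Subtype.ext (hHcomm x x.2 y y.2)) hxy

theorem odd_inverted (hZ : Cfsg.IsZassenhausGroup G Ω) {a b : Ω} (hab : a ≠ b)
    (H : Subgroup G) (hHa : H ≤ stabilizer G a) (hHcard : Nat.card H + 1 = Fintype.card Ω)
    (hHfix : ∀ u ∈ H, u ≠ 1 → ∀ c : Ω, u • c = c → c = a)
    (hHcomm : ∀ u ∈ H, ∀ w ∈ H, u * w = w * u)
    (hodd : Odd (Nat.card ↥(stabilizer G a ⊓ stabilizer G b)))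
    (hcard : Nat.card Ω - 2 = 2 * Nat.card ↥(stabilizer G a ⊓ stabilizer G b)) :
    ∀ s : G, s • a = b → s • b = a → ∀ h ∈ stabilizer G a ⊓ stabilizer G b, s * h * s⁻¹ = h⁻¹ := by
  classical
  have hn3 := three_le_card hZ
  refine (S0739.result hZ hab hodd ?_).2.2
  rintro q hq hqd ⟨N, hN, hidx⟩
  haveI := hN
  set E := stabilizer G a ⊓ stabilizer G b with hE
  have hdG : Nat.card E ∣ Nat.card G := Subgroup.card_subgroup_dvd_card _
  have hidx1 : 1 < N.index := by
    rw [hidx]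
    exact Nat.one_lt_pow (hq.factorization_pos_of_dvd Nat.card_pos.ne' (hqd.trans hdG)).ne' hq.one_lt
  have hNne : N ≠ ⊥ := by
    intro h
    rw [h, Subgroup.index_bot] at hidx
    have h2 := hidx ▸ two_dvd_card hZ
    have : 2 = q := (Nat.prime_dvd_prime_iff_eq Nat.prime_two hq).1 (Nat.prime_two.dvd_of_dvd_pow h2)
    subst this
    exact Nat.not_even_iff_odd.2 hodd (even_iff_two_dvd.2 hqd)
  have hZN := Perm.zassenhaus_normal hZ hNne
  obtain ⟨H', hH'a, hH'n, hH'card, hH'fix⟩ := exists_kernel_subgroup hZN a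
  have hK := coe_eq_pointKernel hZ H hHa (by rw [Nat.card_eq_fintype_card (α := Ω)]; omega) hHfix
  have hsub : ∀ u ∈ H', (u : G) ∈ H := by
    intro u hu
    refine hK.ge (?_ : (u : G) ∈ pointKernel G a)
    refine ⟨hH'a hu, ?_⟩
    by_cases h1 : (u : G) = 1
    · exact Or.inl h1
    · exact Or.inr fun c hc => hH'fix u hu (fun e => h1 (congrArg Subtype.val e)) c hc
  have hb := abelian_bound hZN hab H' hH'a
    (by rw [hH'card, ← Nat.card_eq_fintype_card (α := Ω)]; omega) hH'fix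
    (fun u hu w hw => Subtype.ext (hHcomm u (hsub u hu) w (hsub w hw)))
  have h1 := card_eq hZN hab
  have h2 := card_eq hZ hab
  have h3 := Subgroup.card_mul_index N
  rw [h1, h2] at h3
  have h4 : Nat.card Ω * ((Nat.card Ω - 1) * (Nat.card ↥(stabilizer N a ⊓ stabilizer N b) * N.index)) =
      Nat.card Ω * ((Nat.card Ω - 1) * Nat.card E) := by rw [← h3]; ring
  have h5 := Nat.eq_of_mul_eq_mul_left (by omega) (Nat.eq_of_mul_eq_mul_left (by omega) h4)
  rw [← Nat.card_eq_fintype_card, hcard, ← h5] at hb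
  have h6 : 0 < Nat.card ↥(stabilizer N a ⊓ stabilizer N b) := Nat.card_pos
  nlinarith

theorem sharply_three_of_card (hZ : Cfsg.IsZassenhausGroup G Ω) {a b : Ω} (hab : a ≠ b)
    (hd : Nat.card ↥(stabilizer G a ⊓ stabilizer G b) = Nat.card Ω - 2) :
    MulAction.IsMultiplyPretransitive G Ω 3 ∧ ∀ t : Fin 3 ↪ Ω, stabilizer G t = ⊥ := by
  classical
  have := Fintype.ofFinite G
  have hsharp : ∀ x : Fin 3 ↪ Ω, ∀ g : G, g • x = x → g = 1 := fun x g h =>
    eq_one_of_fix3 hZ (fun e => absurd (x.injective e) (by decide))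
      (fun e => absurd (x.injective e) (by decide)) (fun e => absurd (x.injective e) (by decide))
      (congrArg (fun y : Fin 3 ↪ Ω => y 0) h) (congrArg (fun y : Fin 3 ↪ Ω => y 1) h)
      (congrArg (fun y : Fin 3 ↪ Ω => y 2) h)
  refine ⟨⟨fun x => ?_⟩, fun x => ?_⟩
  · have hinj : Function.Injective (fun g : G => g • x) := fun g k e => by
      refine (inv_mul_eq_one.1 (hsharp x (g⁻¹ * k) ?_))
      rw [mul_smul, ← show g • x = k • x from e, inv_smul_smul]
    refine ((Nat.bijective_iff_injective_and_card _).2 ⟨hinj, ?_⟩).2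
    rw [Nat.card_eq_fintype_card (α := Fin 3 ↪ Ω), Fintype.card_embedding_eq, Fintype.card_fin,
      card_eq hZ hab, hd, Nat.card_eq_fintype_card (α := Ω),
      Nat.descFactorial_succ, Nat.descFactorial_succ, Nat.descFactorial_one]
    ring
  · rw [Subgroup.eq_bot_iff_forall]
    exact fun g hg => hsharp x g hg

theorem abelian_classify (hZ : Cfsg.IsZassenhausGroup G Ω) {a b : Ω} (hab : a ≠ b)
    (H : Subgroup G) (hHa : H ≤ stabilizer G a)
    (hHn : ∀ t ∈ stabilizer G a, ∀ u ∈ H, t * u * t⁻¹ ∈ H)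
    (hHcard : Nat.card H + 1 = Fintype.card Ω)
    (hHfix : ∀ u ∈ H, u ≠ 1 → ∀ c : Ω, u • c = c → c = a)
    (hHcomm : ∀ u ∈ H, ∀ w ∈ H, u * w = w * u) :
    (MulAction.IsMultiplyPretransitive G Ω 3 ∧ ∀ t : Fin 3 ↪ Ω, stabilizer G t = ⊥) ∨
      ∃ (p f : ℕ) (K : Type) (_ : Field K) (_ : Fintype K), p.Prime ∧ p ≠ 2 ∧ Fintype.card K = p ^ f ∧
        Nonempty (G ≃* Matrix.ProjectiveSpecialLinearGroup (Fin 2) K) := by
  have hn3 := three_le_card hZ
  have hb := abelian_bound hZ hab H hHa hHcard hHfix hHcomm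
  rw [← Nat.card_eq_fintype_card] at hb
  obtain ⟨k, hk⟩ := card_pair_dvd_sub_two hZ hab
  set d := Nat.card ↥(stabilizer G a ⊓ stabilizer G b) with hd
  have hd0 : 0 < d := Nat.card_pos
  rcases k with _ | _ | _ | k
  · exfalso
    rw [mul_zero] at hk
    omega
  · exact Or.inl (sharply_three_of_card hZ hab (by rw [hk, zero_add, mul_one]))
  · right
    have hcard : Nat.card Ω - 2 = 2 * d := by rw [hk]; ring
    rcases Nat.even_or_odd d with he | ho
    · obtain ⟨p, f, K, iK, iF, hp, hp2, -, hK, -, hiso⟩ := even_psl2 hZ hab he hcard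
      exact ⟨p, f, K, iK, iF, hp, hp2, hK, hiso⟩
    · have hinv := odd_inverted hZ hab H hHa hHcard hHfix hHcomm ho hcard
      obtain ⟨s, hs2, hsa, hsb⟩ := exists_involution_swap hZ hab
      obtain ⟨p, f, K, iK, iF, hp, hp2, -, hK, -, hiso⟩ := exists_psl2 hZ hab H hHa hHn
        (by rw [Nat.card_eq_fintype_card (α := Ω)]; omega) hHfix hHcomm hcard s hsa hsb
        (by rw [← pow_two, ← hs2, pow_orderOf_eq_one]) (hinv s hsa hsb)
      exact ⟨p, f, K, iK, iF, hp, hp2, hK, hiso⟩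
  · exfalso
    rw [hk] at hb
    nlinarith

end Cfsg.Agent.Zassenhaus
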