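/-
Simple Zassenhaus groups with two-point stabiliser of even order.

* `four_dvd_moved` : in a simple group every involution is an even permutation
* `not_sharply_three` : the two-point stabiliser does not act transitively on the other points
* `simple_even_structure` : `2 d = n - 2`, the two-point stabiliser is cyclic and every element
  interchanging the two points is an involution inverting it
-/
import Cfsg.Agent.S0729
import Cfsg.Agent.S0739
import Cfsg.Agent.Lib.Zassenhaus.FixTwo
import Cfsg.Agent.S0741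
import Cfsg.Agent.EqLemmas

set_option autoImplicit false

open MulAction
open scoped commutatorElement

namespace Cfsg.Agent.Zassenhaus

variable {G Ω : Type*} [Group G] [Finite G] [MulAction G Ω] [Finite Ω]

theorem four_dvd_moved (hZ : Cfsg.IsZassenhausGroup G Ω) [IsSimpleGroup G] {t : G}
    (ht : orderOf t = 2) : 4 ∣ Nat.card Ω - Nat.card (fixedBy Ω t) := by
  classical
  have := Fintype.ofFinite Ω
  haveI := hZ.1
  let π := MulAction.toPermHom G Ω
  let f : G →* ℤˣ := Equiv.Perm.sign.comp π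
  have hf : f.ker = ⊤ := by
    refine (Subgroup.Normal.eq_bot_or_eq_top inferInstance).resolve_left fun h => ?_
    have h1 : Nat.card G ≤ Nat.card ℤˣ :=
      Nat.card_le_card_of_injective f ((MonoidHom.ker_eq_bot_iff f).1 h)
    rw [Nat.card_eq_fintype_card (α := ℤˣ), Fintype.card_units_int] at h1
    obtain ⟨_, _, a, b, hab, _, _⟩ := hZ.2.2.2.1
    have h3 := three_le_card hZ
    have h4 : Nat.card Ω ∣ Nat.card G := ⟨_, card_eq hZ hab⟩
    have := Nat.le_of_dvd Nat.card_pos h4
    omega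
  have hsign : Equiv.Perm.sign (π t) = 1 := MonoidHom.mem_ker.1 (hf ▸ Subgroup.mem_top t : t ∈ f.ker)
  have ho : orderOf (π t) = 2 := by
    rw [orderOf_injective π (MulAction.toPerm_injective) t, ht]
  obtain ⟨j, hj⟩ := Equiv.Perm.cycleType_prime_order (σ := π t) (by rw [ho]; exact Nat.prime_two)
  have hsum := Equiv.Perm.sum_cycleType (π t)
  rw [ho] at hj
  rw [hj, Multiset.sum_replicate, smul_eq_mul] at hsum
  rw [Equiv.Perm.sign_of_cycleType, hj, Multiset.sum_replicate, smul_eq_mul, Multiset.card_replicate] at hsign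
  have heven : Even (j + 1) := by
    rcases Nat.even_or_odd (j + 1) with h | h
    · exact h
    · exfalso
      rw [show (j + 1) * 2 + (j + 1) = 3 * (j + 1) by ring, Odd.neg_one_pow ((by decide : Odd 3).mul h)] at hsign
      exact absurd hsign (by decide)
  have hsupp : (π t).support = (Finset.univ.filter fun c : Ω => t • c = c)ᶜ := by
    ext c
    simp [π]
  have hfix : Nat.card (fixedBy Ω t) = (Finset.univ.filter fun c : Ω => t • c = c).card := by
    rw [← Fintype.card_subtype, ← Nat.card_eq_fintype_card]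
    rfl
  rw [hfix, Nat.card_eq_fintype_card, ← Finset.card_compl, ← hsupp, ← hsum]
  obtain ⟨i, hi⟩ := heven
  exact ⟨i, by omega⟩

set_option maxHeartbeats 1000000 in
/-- In a simple Zassenhaus group a two-point stabiliser of even order has at least two orbits
outside the two points. -/
theorem not_sharply_three (hZ : Cfsg.IsZassenhausGroup G Ω) [IsSimpleGroup G] {a b : Ω} (hab : a ≠ b)
    (heven : Even (Nat.card ↥(stabilizer G a ⊓ stabilizer G b))) :
    Nat.card ↥(stabilizer G a ⊓ stabilizer G b) ≠ Nat.card Ω - 2 := by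
  classical
  intro hd
  have := Fintype.ofFinite Ω
  have := Fintype.ofFinite G
  haveI := hZ.1
  have hn3 := three_le_card hZ
  set E : Subgroup G := stabilizer G a ⊓ stabilizer G b with hE
  obtain ⟨⟨z, hzE⟩, hz⟩ := exists_prime_orderOf_dvd_card' (G := E) 2 heven.two_dvd
  have hzo : orderOf z = 2 := (Subgroup.orderOf_coe _).trans hz
  have hza : z • a = a := hzE.1
  have hzb : z • b = b := hzE.2
  have hz1 : z ≠ 1 := fun h => by simp [h] at hzo
  have hzz : z * z = 1 := by rw [← pow_two, ← hzo, pow_orderOf_eq_one]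
  have hn6 : 6 ≤ Fintype.card Ω := by
    have h1 := four_dvd_moved hZ hzo
    have h2 : Nat.card (fixedBy Ω z) = 2 := by
      refine le_antisymm (card_fixedBy_le_two hZ hz1) ?_
      rw [Nat.card_coe_set_eq, ← Set.ncard_pair hab]
      refine Set.ncard_le_ncard ?_ (Set.toFinite _)
      rintro c (rfl | rfl)
      · exact hza
      · exact hzb
    rw [h2, Nat.card_eq_fintype_card] at h1
    rw [Nat.card_eq_fintype_card] at hn3
    omega
  -- the two point stabiliser is transitive on the other points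
  have htransE : ∀ c d : Ω, c ≠ a → c ≠ b → d ≠ a → d ≠ b → ∃ h ∈ E, h • c = d := by
    intro c d hca hcb hda hdb
    let X := {w : Ω // w ≠ a ∧ w ≠ b}
    let f : E → X := fun h => ⟨(h : G) • c,
      fun e => hca (smul_left_cancel (h : G) (e.trans (show (h : G) • a = a from h.2.1).symm)),
      fun e => hcb (smul_left_cancel (h : G) (e.trans (show (h : G) • b = b from h.2.2).symm))⟩
    have hinj : Function.Injective f := by
      intro h k e
      have e' : (h : G) • c = (k : G) • c := congrArg Subtype.val e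
      refine Subtype.ext (inv_mul_eq_one.1 (eq_one_of_fix3 hZ hab (Ne.symm hcb) (Ne.symm hca)
        ?_ ?_ (by rw [mul_smul, ← e', inv_smul_smul])))
      · exact (mul_mem (inv_mem h.2) k.2).1
      · exact (mul_mem (inv_mem h.2) k.2).2
    have hX : Nat.card X = Nat.card Ω - 2 := by
      have : ({a, b} : Set Ω)ᶜ = {w : Ω | w ≠ a ∧ w ≠ b} := by ext w; simp
      change Nat.card {w : Ω | w ≠ a ∧ w ≠ b} = _
      rw [Nat.card_coe_set_eq, ← this, Set.ncard_compl, Set.ncard_pair hab]
    obtain ⟨h, hh⟩ := ((Nat.bijective_iff_injective_and_card f).2 ⟨hinj, hd.trans hX.symm⟩).2 ⟨d, hda, hdb⟩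
    exact ⟨h, h.2, congrArg Subtype.val hh⟩
  obtain ⟨c₀, hc₀a, hc₀b⟩ := exists_third hZ hab
  have hzc : z • c₀ ≠ c₀ := fun h => hz1 (eq_one_of_fix3 hZ hab hc₀b.symm hc₀a.symm hza hzb h)
  obtain ⟨g₀, hg₀a, hg₀b⟩ := exists_smul_pair hZ hab (Ne.symm hzc)
  set s₀ : G := g₀⁻¹ * z * g₀ with hs₀
  have hs₀a : s₀ • a = b := by rw [hs₀, mul_smul, mul_smul, hg₀a, ← hg₀b, inv_smul_smul]
  have hs₀s₀ : s₀ * s₀ = 1 := by
    rw [hs₀, show g₀⁻¹ * z * g₀ * (g₀⁻¹ * z * g₀) = g₀⁻¹ * (z * z) * g₀ by group, hzz]; group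
  have hs₀b : s₀ • b = a := by rw [← hs₀a, ← mul_smul, hs₀s₀, one_smul]
  set c := g₀⁻¹ • a with hc
  have hca : a ≠ c := by
    intro h
    rw [hc, eq_inv_smul_iff, hg₀a] at h
    exact hc₀a h
  have hcb : b ≠ c := by
    intro h
    rw [hc, eq_inv_smul_iff, hg₀b] at h
    exact hc₀a (by rw [← one_smul G c₀, ← hzz, mul_smul, h, hza])
  have hs₀c : s₀ • c = c := by rw [hc, hs₀, ← mul_smul, mul_inv_cancel_right, mul_smul, hza]
  -- sharply triple transitivity on the permutation image
  let π := MulAction.toPermHom G Ω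
  let P : Subgroup (Equiv.Perm Ω) := π.range
  have hPsmul : ∀ (g : G) (x : Ω), (⟨π g, g, rfl⟩ : P) • x = g • x := fun g x => rfl
  have hsharpG : ∀ x : Fin 3 ↪ Ω, ∀ g : G, g • x = x → g = 1 := fun x g h =>
    eq_one_of_fix3 hZ (fun e => absurd (x.injective e) (by decide))
      (fun e => absurd (x.injective e) (by decide)) (fun e => absurd (x.injective e) (by decide))
      (congrArg (fun y : Fin 3 ↪ Ω => y 0) h) (congrArg (fun y : Fin 3 ↪ Ω => y 1) h)
      (congrArg (fun y : Fin 3 ↪ Ω => y 2) h)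
  have h3G : ∀ x y : Fin 3 ↪ Ω, ∃ g : G, g • x = y := by
    intro x
    have hinj : Function.Injective (fun g : G => g • x) := fun g k e => by
      refine (inv_mul_eq_one.1 (hsharpG x (g⁻¹ * k) ?_))
      rw [mul_smul, ← show g • x = k • x from e, inv_smul_smul]
    refine ((Nat.bijective_iff_injective_and_card _).2 ⟨hinj, ?_⟩).2
    rw [Nat.card_eq_fintype_card (α := Fin 3 ↪ Ω), Fintype.card_embedding_eq, Fintype.card_fin,
      card_eq hZ hab, ← hE, hd, Nat.card_eq_fintype_card (α := Ω),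
      Nat.descFactorial_succ, Nat.descFactorial_succ, Nat.descFactorial_one]
    ring
  have h3P : MulAction.IsMultiplyPretransitive P Ω 3 := ⟨fun x y => by
    obtain ⟨g, hg⟩ := h3G x y
    exact ⟨⟨π g, g, rfl⟩, hg⟩⟩
  have hsharpP : ∀ x : Fin 3 ↪ Ω, stabilizer P x = ⊥ := by
    intro x
    rw [Subgroup.eq_bot_iff_forall]
    rintro ⟨_, g, rfl⟩ hg
    have := hsharpG x g hg
    exact Subtype.ext (by simp [this])
  have hevΩ : Even (Fintype.card Ω) := by
    obtain ⟨i, hi⟩ := heven
    rw [hd, Nat.card_eq_fintype_card] at hi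
    exact ⟨i + 1, by omega⟩
  obtain ⟨N', -, hN'n, hN'i, hN's⟩ := S0729.result hevΩ hn6 P h3P hsharpP hab hca hcb
    ⟨π s₀, s₀, rfl⟩ ((hPsmul s₀ a).trans hs₀a) ((hPsmul s₀ b).trans hs₀b) ((hPsmul s₀ c).trans hs₀c)
  -- the index two subgroup of the two-point stabiliser
  let ψ : E →* ↥(stabilizer P a ⊓ stabilizer P b) :=
    { toFun := fun h => ⟨⟨π (h : G), (h : G), rfl⟩, h.2.1, h.2.2⟩
      map_one' := Subtype.ext (Subtype.ext (map_one π))
      map_mul' := fun h k => Subtype.ext (Subtype.ext (map_mul π (h : G) (k : G))) }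
  let N : Subgroup E := (N'.subgroupOf (stabilizer P a ⊓ stabilizer P b)).comap ψ
  have hψ : Function.Surjective ψ := by
    rintro ⟨⟨_, g, rfl⟩, hga, hgb⟩
    exact ⟨⟨g, hga, hgb⟩, rfl⟩
  have hNi : N.index = 2 := by
    rw [Subgroup.index_comap_of_surjective _ hψ]
    exact hN'i
  -- the centraliser of `z` and its character
  let C : Subgroup G := Subgroup.centralizer {z}
  have hzE' : ∀ h ∈ E, h * z * h⁻¹ = z := fun h hh => by
    refine pair_involution_unique hZ hab ((MulEquiv.orderOf_eq (MulAut.conj h) z).trans hzo) hzo ?_ ?_ hza hzb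
    · exact (mul_mem (mul_mem hh hzE) (inv_mem hh)).1
    · exact (mul_mem (mul_mem hh hzE) (inv_mem hh)).2
  have hEC : ∀ h ∈ E, h ∈ C := fun h hh =>
    Subgroup.mem_centralizer_singleton_iff.2 (mul_inv_eq_iff_eq_mul.1 (hzE' h hh))
  have hswapE : ∀ h ∈ E, s₀ * h * s₀⁻¹ ∈ E := by
    intro h hh
    have e1 : s₀⁻¹ • a = b := inv_smul_eq_iff.2 hs₀b.symm
    have e2 : s₀⁻¹ • b = a := inv_smul_eq_iff.2 hs₀a.symm
    refine ⟨?_, ?_⟩
    · change (s₀ * h * s₀⁻¹) • a = a
      rw [mul_smul, mul_smul, e1, show h • b = b from hh.2, hs₀b]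
    · change (s₀ * h * s₀⁻¹) • b = b
      rw [mul_smul, mul_smul, e2, show h • a = a from hh.1, hs₀a]
  have hs₀C : s₀ ∈ C := by
    refine Subgroup.mem_centralizer_singleton_iff.2 (mul_inv_eq_iff_eq_mul.1 ?_)
    exact pair_involution_unique hZ hab ((MulEquiv.orderOf_eq (MulAut.conj s₀) z).trans hzo) hzo
      (hswapE z hzE).1 (hswapE z hzE).2 hza hzb
  have hCcases : ∀ g ∈ C, g ∈ E ∨ g * s₀ ∈ E := by
    intro g hg
    have hg' : g * z = z * g := Subgroup.mem_centralizer_singleton_iff.1 hg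
    have h1 : z • (g • a) = g • a := by rw [← mul_smul, ← hg', mul_smul, hza]
    have h2 : z • (g • b) = g • b := by rw [← mul_smul, ← hg', mul_smul, hzb]
    have hne : g • a ≠ g • b := fun e => hab (smul_left_cancel g e)
    rcases eq_left_or_eq_right hZ hz1 hab hza hzb h1 with h | h
    · left
      rcases eq_left_or_eq_right hZ hz1 hab hza hzb h2 with h' | h'
      · exact absurd (h.trans h'.symm) hne
      · exact ⟨h, h'⟩
    · right
      rcases eq_left_or_eq_right hZ hz1 hab hza hzb h2 with h' | h'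
      · exact ⟨show (g * s₀) • a = a by rw [mul_smul, hs₀a, h'],
          show (g * s₀) • b = b by rw [mul_smul, hs₀b, h]⟩
      · exact absurd (h.trans h'.symm) hne
  have hs₀E : s₀ ∉ E := fun h => hab (h.1.symm.trans hs₀a)
  have hs₀inv : s₀⁻¹ = s₀ := inv_eq_of_mul_eq_one_right hs₀s₀
  have hNs : ∀ h : E, h ∈ N → (⟨s₀ * h * s₀⁻¹, hswapE h h.2⟩ : E) ∈ N := by
    intro h hh
    have := hN's _ hh
    simp only [N, Subgroup.mem_comap, Subgroup.mem_subgroupOf]
    convert this using 1
    refine Subtype.ext ?_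
    change π (s₀ * (h : G) * s₀⁻¹) = π s₀ * π (h : G) * (π s₀)⁻¹
    rw [map_mul, map_mul, map_inv]
  let inN : G → Prop := fun g => ∃ h : g ∈ E, (⟨g, h⟩ : E) ∈ N
  have inN_mul : ∀ {g k : G}, inN g → inN k → inN (g * k) := fun ⟨hg, hg'⟩ ⟨hk, hk'⟩ =>
    ⟨mul_mem hg hk, N.mul_mem hg' hk'⟩
  have inN_inv : ∀ {g : G}, inN g → inN g⁻¹ := fun ⟨hg, hg'⟩ => ⟨inv_mem hg, N.inv_mem hg'⟩
  have inN_conj : ∀ {g : G}, inN g → inN (s₀ * g * s₀⁻¹) := fun ⟨hg, hg'⟩ => ⟨hswapE _ hg, hNs ⟨_, hg⟩ hg'⟩
  let K : Subgroup G :=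
    { carrier := {g | inN g ∨ inN (g * s₀)}
      one_mem' := Or.inl ⟨one_mem E, N.one_mem⟩
      mul_mem' := by
        rintro g k (hg | hg) (hk | hk)
        · exact Or.inl (inN_mul hg hk)
        · exact Or.inr (by rw [mul_assoc]; exact inN_mul hg hk)
        · refine Or.inr ?_
          have := inN_mul hg (inN_conj hk)
          rwa [show g * s₀ * (s₀ * k * s₀⁻¹) = g * (s₀ * s₀) * k * s₀⁻¹ by group, hs₀s₀, mul_one, hs₀inv] at this
        · refine Or.inl ?_
          have := inN_mul hg (inN_conj hk)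
          rwa [show g * s₀ * (s₀ * (k * s₀) * s₀⁻¹) = g * (s₀ * s₀) * k by group, hs₀s₀, mul_one] at this
      inv_mem' := by
        rintro g (hg | hg)
        · exact Or.inl (inN_inv hg)
        · refine Or.inr ?_
          have := inN_conj (inN_inv hg)
          rwa [show s₀ * (g * s₀)⁻¹ * s₀⁻¹ = (s₀ * s₀⁻¹) * g⁻¹ * s₀⁻¹ by group, mul_inv_cancel, one_mul,
            hs₀inv] at this }
  obtain ⟨y, hy⟩ : ∃ y : E, y ∉ N := by
    by_contra h
    push Not at h
    rw [show N = ⊤ from (Subgroup.eq_top_iff' N).2 h, Subgroup.index_top] at hNi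
    omega
  have hK : (K.subgroupOf C).index = 2 := by
    rw [Subgroup.index_eq_two_iff]
    refine ⟨⟨y, hEC y y.2⟩, ?_⟩
    rintro ⟨g, hg⟩
    simp only [Subgroup.mem_subgroupOf, Subgroup.coe_mul]
    change Xor (inN (g * y) ∨ inN (g * y * s₀)) (inN g ∨ inN (g * s₀))
    have hmem2 : ∀ h : E, ∀ k : E, h * k ∈ N ↔ (h ∈ N ↔ k ∈ N) := fun h k =>
      Subgroup.mul_mem_iff_of_index_two hNi
    rcases hCcases g hg with hgE | hgE
    · have hgs : g * s₀ ∉ E := fun h => hs₀E (by simpa using mul_mem (inv_mem hgE) h)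
      have hgys : g * y * s₀ ∉ E := fun h => hs₀E (by simpa [mul_assoc] using mul_mem (inv_mem (mul_mem hgE y.2)) h)
      have e1 : inN (g * s₀) ↔ False := iff_false_intro fun h => hgs h.1
      have e2 : inN (g * y * s₀) ↔ False := iff_false_intro fun h => hgys h.1
      have e3 : inN g ↔ (⟨g, hgE⟩ : E) ∈ N := ⟨fun ⟨_, h⟩ => h, fun h => ⟨hgE, h⟩⟩
      have e4 : inN (g * y) ↔ (⟨g, hgE⟩ : E) * y ∈ N := ⟨fun ⟨_, h⟩ => h, fun h => ⟨mul_mem hgE y.2, h⟩⟩
      rw [e1, e2, e3, e4, or_false, or_false, hmem2]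
      unfold Xor
      tauto
    · have hgE' : g ∉ E := fun h => hs₀E (by simpa using mul_mem (inv_mem h) hgE)
      have hgy : g * y ∉ E := fun h => hgE' (by simpa using mul_mem h (inv_mem y.2))
      have e1 : inN g ↔ False := iff_false_intro fun h => hgE' h.1
      have e2 : inN (g * y) ↔ False := iff_false_intro fun h => hgy h.1
      have e3 : inN (g * s₀) ↔ (⟨g * s₀, hgE⟩ : E) ∈ N := ⟨fun ⟨_, h⟩ => h, fun h => ⟨hgE, h⟩⟩
      let y' : E := ⟨s₀ * y * s₀⁻¹, hswapE y y.2⟩
      have hy' : y' ∉ N := by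
        intro h
        apply hy
        have := hNs y' h
        convert this using 1
        apply Subtype.ext
        change (y : G) = s₀ * (s₀ * y * s₀⁻¹) * s₀⁻¹
        rw [show s₀ * (s₀ * (y : G) * s₀⁻¹) * s₀⁻¹ = (s₀ * s₀) * y * (s₀ * s₀)⁻¹ by group, hs₀s₀,
          inv_one, one_mul, mul_one]
      have hprod : g * (y : G) * s₀ = ((⟨g * s₀, hgE⟩ * y' : E) : G) := by
        change g * (y : G) * s₀ = g * s₀ * (s₀ * y * s₀⁻¹)
        rw [show g * s₀ * (s₀ * (y : G) * s₀⁻¹) = g * (s₀ * s₀) * y * s₀⁻¹ by group, hs₀s₀, mul_one, hs₀inv]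
      have e4 : inN (g * y * s₀) ↔ (⟨g * s₀, hgE⟩ : E) * y' ∈ N := by
        constructor
        · rintro ⟨hh, h⟩
          convert h using 1
          exact Subtype.ext hprod.symm
        · intro h
          refine ⟨hprod ▸ (⟨g * s₀, hgE⟩ * y' : E).2, ?_⟩
          convert h using 1
          exact Subtype.ext hprod
      rw [e1, e2, e3, e4, false_or, false_or, hmem2]
      unfold Xor
      tauto
  -- the character of `C` and the transfer
  let ρ : C →* ℤˣ :=
    { toFun := fun g => if g ∈ K.subgroupOf C then 1 else -1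
      map_one' := by rw [if_pos (one_mem _)]
      map_mul' := fun g k => by
        have h := Subgroup.mul_mem_iff_of_index_two hK (a := g) (b := k)
        by_cases hg : g ∈ K.subgroupOf C <;> by_cases hk : k ∈ K.subgroupOf C <;>
          simp [h, hg, hk] }
  let yC : C := ⟨y, hEC y y.2⟩
  have hρy : ρ yC = -1 := by
    refine if_neg fun h => ?_
    rcases h with ⟨_, h⟩ | ⟨h, _⟩
    · exact hy h
    · exact hs₀E (by simpa [yC] using mul_mem (inv_mem y.2) h)
  have hρs : ρ ⟨s₀, hs₀C⟩ = 1 := if_pos (Or.inr ⟨by simp [hs₀s₀], by convert N.one_mem using 1; exact Subtype.ext hs₀s₀⟩)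
  have hτ : MonoidHom.transfer ρ = 1 := by
    have hcomm : commutator G = ⊤ := by
      refine (Subgroup.Normal.eq_bot_or_eq_top inferInstance).resolve_left fun h => ?_
      haveI hab' : IsMulCommutative G := ⟨⟨fun g k => by
        have : ⁅g, k⁆ ∈ commutator G := by
          rw [commutator_def]
          exact Subgroup.commutator_mem_commutator (Subgroup.mem_top g) (Subgroup.mem_top k)
        rw [h, Subgroup.mem_bot, commutatorElement_eq_one_iff_mul_comm] at this
        exact this⟩⟩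
      -- an element fixing `a` fixes every point
      apply hz1
      apply FaithfulSMul.eq_of_smul_eq_smul (α := Ω)
      intro x
      haveI := isPretransitive hZ
      obtain ⟨g, rfl⟩ := MulAction.exists_smul_eq G a x
      rw [one_smul, ← mul_smul, mul_comm', mul_smul, hza]
    have hker : (MonoidHom.transfer ρ).ker = ⊤ := by
      rw [eq_top_iff, ← hcomm]
      exact Abelianization.commutator_subset_ker _
    exact MonoidHom.ker_eq_top_iff.1 hker
  have hprod := MonoidHom.transfer_eq_prod_quotient_orbitRel_zpowers_quot ρ (y : G)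
  rw [hτ, MonoidHom.one_apply] at hprod
  let q₁ : Quotient (orbitRel (Subgroup.zpowers (y : G)) (G ⧸ C)) :=
    Quotient.mk _ ((1 : G) : G ⧸ C)
  rw [Finset.prod_eq_single q₁] at hprod
  · -- the fixed coset
    have hfixed : ∀ x : G ⧸ C, x = ((1 : G) : G ⧸ C) → (y : G) • x = x := by
      rintro x rfl
      change (((y : G) * 1 : G) : G ⧸ C) = _
      rw [QuotientGroup.eq]
      simpa using inv_mem (hEC y y.2)
    have hout : (q₁.out : G ⧸ C) = ((1 : G) : G ⧸ C) := by
      have h := Quotient.mk_out (((1 : G) : G ⧸ C))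
        (s := orbitRel (Subgroup.zpowers (y : G)) (G ⧸ C))
      obtain ⟨⟨w, hw⟩, hw'⟩ := h
      have hle : Subgroup.zpowers (y : G) ≤ stabilizer G ((1 : G) : G ⧸ C) :=
        Subgroup.zpowers_le.2 (hfixed _ rfl)
      rw [← hle hw] at *
      exact hw'.symm
    have hper : Function.minimalPeriod ((y : G) • ·) q₁.out = 1 :=
      Function.minimalPeriod_eq_one_iff_isFixedPt.2 (hfixed _ hout)
    have hg : (q₁.out).out ∈ C := by
      have h := (QuotientGroup.out_eq' q₁.out).trans hout
      rw [QuotientGroup.eq] at h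
      simpa using inv_mem h
    let g' : C := ⟨(q₁.out).out, hg⟩
    have : (⟨(q₁.out).out⁻¹ * (y : G) ^ Function.minimalPeriod ((y : G) • ·) q₁.out * (q₁.out).out,
        QuotientGroup.out_conj_pow_minimalPeriod_mem C (y : G) q₁.out⟩ : C) = g'⁻¹ * yC * g' :=
      Subtype.ext (by simp [g', yC, hper])
    rw [this, map_mul, map_mul, mul_comm (ρ g'⁻¹), mul_assoc, ← map_mul, inv_mul_cancel, map_one,
      mul_one, hρy] at hprod
    exact absurd hprod (by decide)
  · intro q _ hq
    set g := (q.out).out with hgdef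
    set l := Function.minimalPeriod ((y : G) • ·) q.out with hl
    have hgC : g ∉ C := by
      intro hgC
      apply hq
      rw [← Quotient.out_eq q]
      refine congrArg (Quotient.mk _) ?_
      rw [← QuotientGroup.out_eq' q.out, ← hgdef, QuotientGroup.eq]
      simpa using inv_mem hgC
    have hwC := QuotientGroup.out_conj_pow_minimalPeriod_mem C (y : G) q.out
    rw [← hgdef, ← hl] at hwC
    set w := (y : G) ^ l with hw
    change ρ ⟨g⁻¹ * w * g, hwC⟩ = 1
    by_cases hw1 : w = 1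
    · simp [hw1]
      exact if_pos (Or.inl ⟨one_mem E, N.one_mem⟩)
    have hwE : w ∈ E := pow_mem y.2 l
    have hwa : w • a = a := hwE.1
    have hwb : w • b = b := hwE.2
    have hgne : g • a ≠ g • b := fun e => hab (smul_left_cancel g e)
    have hnotboth : ¬ ((g • a = a ∨ g • a = b) ∧ (g • b = a ∨ g • b = b)) := by
      rintro ⟨h1, h2⟩
      apply hgC
      rcases h1 with h1 | h1 <;> rcases h2 with h2 | h2
      · exact absurd (h1.trans h2.symm) hgne
      · exact hEC g ⟨h1, h2⟩
      · have : g * s₀ ∈ E := ⟨show (g * s₀) • a = a by rw [mul_smul, hs₀a, h2],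
          show (g * s₀) • b = b by rw [mul_smul, hs₀b, h1]⟩
        simpa [hs₀s₀, mul_assoc] using mul_mem (hEC _ this) hs₀C
      · exact absurd (h1.trans h2.symm) hgne
    have hfix_w : ∀ x : Ω, w • x = x → x = a ∨ x = b := fun x hx =>
      eq_left_or_eq_right hZ hw1 hab hwa hwb hx
    have hswap : w • g • a = g • b ∧ w • g • b = g • a := by
      rcases hCcases _ hwC with ⟨h1, h2⟩ | ⟨h1, h2⟩
      · exfalso
        refine hnotboth ⟨hfix_w _ ?_, hfix_w _ ?_⟩
        · have h1' : (g⁻¹ * w * g) • a = a := h1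
          rwa [mul_smul, mul_smul, inv_smul_eq_iff] at h1'
        · have h2' : (g⁻¹ * w * g) • b = b := h2
          rwa [mul_smul, mul_smul, inv_smul_eq_iff] at h2'
      · have h1' : (g⁻¹ * w * g * s₀) • a = a := h1
        have h2' : (g⁻¹ * w * g * s₀) • b = b := h2
        rw [mul_smul, mul_smul, mul_smul, hs₀a, inv_smul_eq_iff] at h1'
        rw [mul_smul, mul_smul, mul_smul, hs₀b, inv_smul_eq_iff] at h2'
        exact ⟨h2', h1'⟩
    have hga : g • a ≠ a ∧ g • a ≠ b := by
      constructor <;> intro h <;> apply hgne <;> rw [← hswap.1, h]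
      · rw [hwa]
      · rw [hwb]
    have hwz : w = z := by
      have hw2 : w * w = 1 := eq_one_of_fix3 hZ hab hga.2.symm hga.1.symm
        (by rw [mul_smul, hwa, hwa]) (by rw [mul_smul, hwb, hwb]) (by rw [mul_smul, hswap.1, hswap.2])
      exact pair_involution_unique hZ hab
        (orderOf_eq_prime (by rw [pow_two]; exact hw2) hw1) hzo hwa hwb hza hzb
    obtain ⟨h, hhE, hh⟩ := htransE c₀ (g • a) hc₀a hc₀b hga.1 hga.2
    have heE : (h * g₀)⁻¹ * g ∈ E := by
      constructor
      · change ((h * g₀)⁻¹ * g) • a = a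
        rw [mul_smul, inv_smul_eq_iff, mul_smul, hg₀a, hh]
      · change ((h * g₀)⁻¹ * g) • b = b
        rw [mul_smul, inv_smul_eq_iff, mul_smul, hg₀b, ← hswap.1, hwz, ← hh, ← mul_smul, ← mul_smul,
          mul_inv_eq_iff_eq_mul.1 (hzE' h hhE)]
    let e : C := ⟨_, hEC _ heE⟩
    have : (⟨g⁻¹ * w * g, hwC⟩ : C) = e⁻¹ * ⟨s₀, hs₀C⟩ * e := by
      apply Subtype.ext
      change g⁻¹ * w * g = ((h * g₀)⁻¹ * g)⁻¹ * (g₀⁻¹ * z * g₀) * ((h * g₀)⁻¹ * g)
      rw [hwz, show ((h * g₀)⁻¹ * g)⁻¹ * (g₀⁻¹ * z * g₀) * ((h * g₀)⁻¹ * g) = g⁻¹ * (h * z * h⁻¹) * g by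
        group, hzE' h hhE]
    rw [this, map_mul, map_mul, mul_comm (ρ e⁻¹), mul_assoc, ← map_mul, inv_mul_cancel, map_one,
      mul_one, hρs]
  · exact fun h => absurd (Finset.mem_univ _) h

/-- **Structure of the two-point stabiliser, even case.** -/
theorem simple_even_structure (hZ : Cfsg.IsZassenhausGroup G Ω) [IsSimpleGroup G] {a b : Ω}
    (hab : a ≠ b) (heven : Even (Nat.card ↥(stabilizer G a ⊓ stabilizer G b))) :
    Nat.card Ω - 2 = 2 * Nat.card ↥(stabilizer G a ⊓ stabilizer G b) ∧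
      IsCyclic ↥(stabilizer G a ⊓ stabilizer G b) ∧
      (∀ s : G, s • a = b → s • b = a →
        orderOf s = 2 ∧ ∀ h ∈ stabilizer G a ⊓ stabilizer G b, s * h * s⁻¹ = h⁻¹) ∧
      ∀ t : G, orderOf t = 2 → Nat.card (fixedBy Ω t) = 2 := by
  classical
  have := Fintype.ofFinite Ω
  have := Fintype.ofFinite G
  have hn3 := three_le_card hZ
  set d := Nat.card ↥(stabilizer G a ⊓ stabilizer G b) with hd
  have hd0 : 0 < d := Nat.card_pos
  have hcard : Nat.card Ω - 2 = 2 * d := by
    have h1 := S0741.result hZ hab heven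
    rw [← hd, ← Nat.card_eq_fintype_card] at h1
    obtain ⟨k, hk⟩ := card_pair_dvd_sub_two hZ hab
    rw [← hd] at hk
    rw [hk] at h1 ⊢
    have h2 : d * k ≤ d * 2 := by omega
    have h3 : k ≤ 2 := Nat.le_of_mul_le_mul_left h2 hd0
    rcases k with _ | _ | _ | k
    · omega
    · exact absurd (by rw [hk]; simp [hd]) (not_sharply_three hZ hab heven)
    · ring
    · omega
  have hfix2 : ∀ t : G, orderOf t = 2 → Nat.card (fixedBy Ω t) = 2 := by
    intro t ht
    have ht1 : t ≠ 1 := fun h => by simp [h] at ht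
    have htt : t * t = 1 := by rw [← pow_two, ← ht, pow_orderOf_eq_one]
    have h1 := four_dvd_moved hZ ht
    have h2 := card_fixedBy_le_two hZ ht1
    have h3 : Nat.card (fixedBy Ω t) % 2 = Nat.card Ω % 2 := card_fixedBy_modEq htt
    obtain ⟨i, hi⟩ := heven
    omega
  have hswap := inverting_of_fix_two hZ hab heven hcard hfix2
  refine ⟨hcard, ?_, hswap, hfix2⟩
  obtain ⟨s, -, hsa, hsb⟩ := exists_involution_swap hZ hab
  haveI : IsMulCommutative ↥(stabilizer G a ⊓ stabilizer G b) := ⟨⟨fun x y => Subtype.ext <| by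
    have hinv := (hswap s hsa hsb).2
    have hx := hinv x x.2
    have hy := hinv y y.2
    have hxy := hinv _ (x * y).2
    rw [Subgroup.coe_mul] at hxy
    change (x : G) * y = y * x
    have h3 : ((x : G) * y)⁻¹ = (x : G)⁻¹ * (y : G)⁻¹ := by rw [← hxy, ← hx, ← hy]; group
    rw [mul_inv_rev] at h3
    have h4 := congrArg (fun u => u⁻¹) h3
    simpa using h4⟩⟩
  exact (smallCyclic_pair hZ hab).isCyclic_of_isMulCommutative

end Cfsg.Agent.Zassenhaus
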